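import Cfsg.Agent.Lib.Janko.J1Group
import Cfsg.Prelude.Def_Sporadic

/-!
# J₁ is simple

An element of order 11 is self-centralising with normaliser of order dividing 110. A normal subgroup
of order divisible by 11 has index dividing 10 by the Frattini argument and so contains `jankoX`
(order 7) and `jankoX ^ 3 * jankoY` (order dividing 19); any other normal subgroup would have, for
each prime `r`, a Sylow subgroup on which an element of order 11 acts without fixed points, which
is impossible.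
-/

set_option autoImplicit false

namespace Cfsg.Agent.Janko.J1

open Subgroup

/-- The first generator. -/
def gX : Cfsg.Spor.J1 := ⟨Cfsg.Spor.jankoX, jankoX_mem⟩

/-- The second generator. -/
def gY : Cfsg.Spor.J1 := ⟨Cfsg.Spor.jankoY, jankoY_mem⟩

theorem gX_pow : gX ^ 7 = 1 := by
  rw [← sv_zero]
  exact pow_eq_of_check (A := genX) (by rw [dec_genX]; rfl) wf_gen.1 (mat_sv (by norm_num)) (by decide +kernel)

theorem gX3Y_pow : (gX ^ 3 * gY) ^ 19 = 1 := by
  rw [← sv_zero]
  refine pow_eq_of_check (A := mm (mpow genX 3) genY) ?_ (red_mm _ _) (mat_sv (by norm_num))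
    (by decide +kernel)
  rw [map_mul, map_pow, dec_mm (red_mpow _ _) wf_gen.2, dec_mpow wf_gen.1, dec_genX, dec_genY]
  rfl

theorem eq_top_of_gens {N : Subgroup Cfsg.Spor.J1} (hX : gX ∈ N) (hY : gY ∈ N) : N = ⊤ := by
  have h : Cfsg.Spor.J1 ≤ N.map Cfsg.Spor.J1.subtype := by
    refine (Subgroup.closure_le _).2 ?_
    rintro x (rfl | rfl)
    · exact ⟨gX, hX, rfl⟩
    · exact ⟨gY, hY, rfl⟩
  refine eq_top_iff.2 fun g _ => ?_
  obtain ⟨y, hy, he⟩ := h g.2
  rwa [← Subtype.ext he]

theorem card_J1_factorization :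
    (Nat.card Cfsg.Spor.J1).factorization 11 = 1 := by
  rw [card_J1, show 175560 = 11 ^ 1 * 15960 by norm_num,
    Nat.factorization_mul (by norm_num) (by norm_num), Finsupp.add_apply,
    Nat.Prime.factorization_pow (by norm_num), Finsupp.single_eq_same,
    Nat.factorization_eq_zero_of_not_dvd (by norm_num : ¬11 ∣ 15960)]

/-- The Sylow subgroup of order 11. -/
noncomputable def P11 [Fact (Nat.Prime 11)] : Sylow 11 Cfsg.Spor.J1 :=
  Sylow.ofCard (zpowers (sv 1)) (by rw [Nat.card_zpowers, orderOf_sv_one, card_J1_factorization,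
    pow_one])

/-- Every element of order 11 is conjugate to a power of `sv 1`. -/
theorem exists_conj {k : Cfsg.Spor.J1} (hk : orderOf k = 11) :
    ∃ g : Cfsg.Spor.J1, g⁻¹ * k * g ∈ zpowers (sv 1) ∧
      g * sv 1 * g⁻¹ ∈ zpowers k := by
  haveI : Fact (Nat.Prime 11) := ⟨by norm_num⟩
  let Q : Sylow 11 Cfsg.Spor.J1 := Sylow.ofCard (zpowers k)
    (by rw [Nat.card_zpowers, hk, card_J1_factorization, pow_one])
  obtain ⟨g, hg⟩ := MulAction.exists_smul_eq Cfsg.Spor.J1 P11 Q
  have h : zpowers k = (zpowers (sv 1)).map (MulAut.conj g).toMonoidHom :=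
    (congrArg (fun S : Sylow 11 Cfsg.Spor.J1 => (S : Subgroup Cfsg.Spor.J1)) hg).symm
  refine ⟨g, ?_, ?_⟩
  · obtain ⟨y, hy, he⟩ := h.le (mem_zpowers k)
    simp only [MulEquiv.coe_toMonoidHom, MulAut.conj_apply] at he
    rw [← he, show g⁻¹ * (g * y * g⁻¹) * g = y by group]
    exact hy
  · exact h.ge ⟨sv 1, mem_zpowers _, rfl⟩

/-- Elements of order 11 are self-centralising. -/
theorem mem_zpowers_of_commute' {k x : Cfsg.Spor.J1} (hk : orderOf k = 11) (h : Commute x k) :
    x ∈ zpowers k := by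
  obtain ⟨g, hg1, hg2⟩ := exists_conj hk
  obtain ⟨m, hm⟩ := mem_zpowers_iff.1 hg2
  have hc : Commute (g⁻¹ * x * g) (sv 1) := by
    have h2 : Commute x (k ^ m) := h.zpow_right m
    rw [hm] at h2
    rw [commute_iff_eq] at h2 ⊢
    calc g⁻¹ * x * g * sv 1 = g⁻¹ * (x * (g * sv 1 * g⁻¹)) * g := by group
      _ = g⁻¹ * (g * sv 1 * g⁻¹ * x) * g := by rw [h2]
      _ = sv 1 * (g⁻¹ * x * g) := by group
  obtain ⟨n, hn⟩ := mem_zpowers_iff.1 (mem_zpowers_of_commute hc)
  have : x = (g * sv 1 * g⁻¹) ^ n := by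
    rw [conj_zpow, hn]; group
  rw [this]
  exact zpow_mem hg2 _

theorem index_dvd_ten {N : Subgroup Cfsg.Spor.J1} [N.Normal] (h11 : 11 ∣ Nat.card N) :
    N.index ∣ 10 := by
  haveI : Fact (Nat.Prime 11) := ⟨by norm_num⟩
  obtain ⟨k, hk⟩ := exists_prime_orderOf_dvd_card' (G := N) 11 h11
  have hk' : orderOf (k : Cfsg.Spor.J1) = 11 := by rw [Subgroup.orderOf_coe, hk]
  have hP : (P11 : Subgroup Cfsg.Spor.J1) ≤ N := by
    obtain ⟨g, -, hg2⟩ := exists_conj hk'
    have hu : g * sv 1 * g⁻¹ ∈ N := (zpowers_le.2 k.2) hg2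
    have := (inferInstance : N.Normal).conj_mem _ hu g⁻¹
    rw [show g⁻¹ * (g * sv 1 * g⁻¹) * g⁻¹⁻¹ = sv 1 by group] at this
    exact zpowers_le.2 this
  have htop := Sylow.normalizer_sup_eq_top' P11 hP
  have h1 : N.index ∣ 110 := by
    rw [← relIndex_top_right, ← htop, relIndex_sup_right, ← card_Hsub]
    exact (relIndex_dvd_card N _).trans (card_dvd_of_le normalizer_le_Hsub)
  have h2 : Nat.Coprime N.index 11 := by
    rw [Nat.coprime_comm, (by norm_num : Nat.Prime 11).coprime_iff_not_dvd]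
    intro h
    have := Nat.mul_dvd_mul h11 h
    rw [card_mul_index, card_J1] at this
    norm_num at this
  exact h2.dvd_of_dvd_mul_right (show N.index ∣ 10 * 11 from h1)

theorem mem_of_pow_coprime {N : Subgroup Cfsg.Spor.J1} [N.Normal] {g : Cfsg.Spor.J1} {n : ℕ}
    (hg : g ^ n = 1) (hi : N.index ∣ 10) (hc : Nat.Coprime n 10) : g ∈ N := by
  have h1 : (g : Cfsg.Spor.J1 ⧸ N) ^ n = 1 := by rw [← QuotientGroup.mk_pow, hg, QuotientGroup.mk_one]
  have h2 : orderOf (g : Cfsg.Spor.J1 ⧸ N) ∣ 10 := (_root_.orderOf_dvd_natCard _).trans hi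
  rw [← QuotientGroup.eq_one_iff, ← orderOf_eq_one_iff]
  exact Nat.eq_one_of_dvd_coprimes hc (orderOf_dvd_of_pow_eq_one h1) h2

theorem eq_top_of_dvd {N : Subgroup Cfsg.Spor.J1} [N.Normal] (h11 : 11 ∣ Nat.card N) : N = ⊤ := by
  have hi := index_dvd_ten h11
  have hX : gX ∈ N := mem_of_pow_coprime gX_pow hi (by norm_num)
  refine eq_top_of_gens hX ?_
  have hZ : gX ^ 3 * gY ∈ N := mem_of_pow_coprime gX3Y_pow hi (by norm_num)
  rwa [Subgroup.mul_mem_cancel_left _ (pow_mem hX 3)] at hZ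

theorem prime_pow_not_one_mod {r m : ℕ} (hr : r.Prime) (hm : 1 ≤ m) (hd : r ^ m ∣ 175560)
    (h11 : r ≠ 11) : r ^ m % 11 ≠ 1 := by
  intro h
  have hr8 : r ∣ 175560 := dvd_trans (dvd_pow_self r (by omega)) hd
  have hcases : r = 2 ∨ r = 3 ∨ r = 5 ∨ r = 7 ∨ r = 11 ∨ r = 19 := by
    rw [show 175560 = 8 * (3 * (5 * (7 * (11 * 19)))) by norm_num] at hr8
    rcases hr.dvd_mul.1 hr8 with a | a
    · left
      exact (Nat.prime_dvd_prime_iff_eq hr Nat.prime_two).1 (hr.dvd_of_dvd_pow (n := 3) a)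
    rcases hr.dvd_mul.1 a with a | a
    · right; left; exact (Nat.prime_dvd_prime_iff_eq hr (by norm_num)).1 a
    rcases hr.dvd_mul.1 a with a | a
    · right; right; left; exact (Nat.prime_dvd_prime_iff_eq hr (by norm_num)).1 a
    rcases hr.dvd_mul.1 a with a | a
    · right; right; right; left; exact (Nat.prime_dvd_prime_iff_eq hr (by norm_num)).1 a
    rcases hr.dvd_mul.1 a with a | a
    · right; right; right; right; left; exact (Nat.prime_dvd_prime_iff_eq hr (by norm_num)).1 a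
    · right; right; right; right; right; exact (Nat.prime_dvd_prime_iff_eq hr (by norm_num)).1 a
  rcases hcases with rfl | rfl | rfl | rfl | rfl | rfl
  · have hm' : m < 4 := by
      by_contra hm'
      have := (pow_dvd_pow 2 (show 4 ≤ m by omega)).trans hd
      norm_num at this
    interval_cases m <;> simp at h
  all_goals first
    | exact h11 rfl
    | (have hm' : m < 2 := by
        by_contra hm'
        have := (pow_dvd_pow _ (show 2 ≤ m by omega)).trans hd
        norm_num at this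
       interval_cases m
       norm_num at h)

theorem eq_bot_of_not_dvd {N : Subgroup Cfsg.Spor.J1} [hN : N.Normal] (h11 : ¬11 ∣ Nat.card N) :
    N = ⊥ := by
  by_contra hne
  haveI : Fact (Nat.Prime 11) := ⟨by norm_num⟩
  obtain ⟨r, hr, hrd⟩ := Nat.exists_prime_and_dvd (mt N.eq_bot_of_card_eq hne)
  haveI : Fact r.Prime := ⟨hr⟩
  have hr11 : r ≠ 11 := fun h => h11 (h ▸ hrd)
  obtain ⟨P⟩ : Nonempty (Sylow r N) := inferInstance
  have htop := Sylow.normalizer_sup_eq_top P
  set R : Subgroup Cfsg.Spor.J1 := (P : Subgroup N).map N.subtype with hR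
  have hM : 11 ∣ Nat.card (normalizer (R : Set Cfsg.Spor.J1)) := by
    have h1 : N.index ∣ Nat.card (normalizer (R : Set Cfsg.Spor.J1)) := by
      rw [← relIndex_top_right, ← htop, relIndex_sup_right]
      exact relIndex_dvd_card N _
    refine dvd_trans ?_ h1
    have := card_mul_index N
    rw [card_J1] at this
    have h2 : 11 ∣ Nat.card N * N.index := by rw [this]; norm_num
    exact ((by norm_num : Nat.Prime 11).dvd_mul.1 h2).resolve_left h11
  obtain ⟨k, hk⟩ := exists_prime_orderOf_dvd_card' (G := normalizer (R : Set Cfsg.Spor.J1)) 11 hM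
  obtain ⟨m, hm⟩ := (P.isPGroup'.map N.subtype).exists_card_eq
  have hm1 : 1 ≤ m := by
    by_contra h0
    rw [show m = 0 by omega, pow_zero] at hm
    rw [Nat.card_congr (equivMapOfInjective _ _ N.subtype_injective).toEquiv.symm] at hm
    exact P.ne_bot_of_dvd_card hrd (eq_bot_of_card_eq _ hm)
  have hmd : r ^ m ∣ 175560 := by
    rw [← hm, ← card_J1]; exact card_subgroup_dvd_card R
  let K : Subgroup (normalizer (R : Set Cfsg.Spor.J1)) := zpowers k
  have hK : IsPGroup 11 K := IsPGroup.of_card (n := 1) (by rw [Nat.card_zpowers, hk, pow_one])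
  letI : MulAction K R :=
    MulAction.compHom R (R.normalizerMonoidHom.comp K.subtype)
  have hmod := hK.card_modEq_card_fixedPoints R
  have hfix : MulAction.fixedPoints K R = {1} := by
    ext x
    simp only [MulAction.mem_fixedPoints, Set.mem_singleton_iff]
    constructor
    · intro hx
      have h1 := congrArg Subtype.val (hx ⟨k, mem_zpowers k⟩)
      replace h1 : (k : Cfsg.Spor.J1) * x * (k : Cfsg.Spor.J1)⁻¹ = x := h1
      have hc : Commute (x : Cfsg.Spor.J1) k := (mul_inv_eq_iff_eq_mul.1 h1).symm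
      have hk' : orderOf (k : Cfsg.Spor.J1) = 11 := by rw [Subgroup.orderOf_coe, hk]
      have hx' := mem_zpowers_of_commute' hk' hc
      have hd1 : orderOf (x : Cfsg.Spor.J1) ∣ 11 :=
        (orderOf_dvd_of_mem_zpowers hx').trans hk'.dvd
      have hd2 : orderOf (x : Cfsg.Spor.J1) ∣ r ^ m := by
        rw [Subgroup.orderOf_coe, ← hm]; exact _root_.orderOf_dvd_natCard x
      have hcop : Nat.Coprime 11 (r ^ m) :=
        Nat.Coprime.pow_right m ((Nat.coprime_primes (by norm_num) hr).2 (Ne.symm hr11))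
      exact Subtype.ext (orderOf_eq_one_iff.1 (Nat.eq_one_of_dvd_coprimes hcop hd1 hd2))
    · rintro rfl g
      exact map_one (R.normalizerMonoidHom (g : normalizer (R : Set Cfsg.Spor.J1)))
  rw [hfix, hm, Nat.card_eq_fintype_card] at hmod
  simp only [Nat.ModEq, Fintype.card_unique, Nat.one_mod] at hmod
  exact prime_pow_not_one_mod hr hm1 hmd hr11 hmod

theorem isSimpleGroup : IsSimpleGroup Cfsg.Spor.J1 := by
  haveI : Nontrivial Cfsg.Spor.J1 :=
    Finite.one_lt_card_iff_nontrivial.1 (by rw [card_J1]; norm_num)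
  refine ⟨fun N hN => ?_⟩
  by_cases h : 11 ∣ Nat.card N
  · exact Or.inr (eq_top_of_dvd h)
  · exact Or.inl (eq_bot_of_not_dvd h)

theorem isJ1 : Cfsg.IsJ1 Cfsg.Spor.J1 := ⟨isSimpleGroup, card_J1⟩

end Cfsg.Agent.Janko.J1
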