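import Mathlib

/-!
# Packed 7 × 7 matrices over the integers modulo 11

A matrix is one natural number with base `2^24` digits, entry `(i, j)` in digit `7 j + i`; a vector has
its entry `i` in digit `i`. `mm` and `mvp` are meant for evaluation by kernel `decide`.
-/

set_option autoImplicit false

namespace Cfsg.Agent.Janko.J1

abbrev M7 := Matrix (Fin 7) (Fin 7) (ZMod 11)
abbrev V7 := Fin 7 → ZMod 11

/-- The digit base. -/
abbrev B : ℕ := 16777216

/-- Digit `t`. -/
def dig (x t : ℕ) : ℕ := x / B ^ t % B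

/-- Digitwise reduction modulo 11 of the first `n` digits. -/
def red : ℕ → ℕ → ℕ
  | 0, _ => 0
  | n + 1, x => x % B % 11 + B * red n (x / B)

/-- A column, packed. -/
def col (A k : ℕ) : ℕ := A / B ^ (7 * k) % B ^ 7

/-- A row, spread with stride seven. -/
def spread (A k : ℕ) : ℕ :=
  (List.range 7).foldr (fun j acc => dig A (7 * j + k) + B ^ 7 * acc) 0

/-- The product of two packed matrices. -/
def mm (A C : ℕ) : ℕ :=
  red 49 (col A 0 * spread C 0 + (col A 1 * spread C 1 + (col A 2 * spread C 2 +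
    (col A 3 * spread C 3 + (col A 4 * spread C 4 + (col A 5 * spread C 5 + col A 6 * spread C 6))))))

/-- The image of a packed vector. -/
def mvp (A v : ℕ) : ℕ :=
  red 7 (col A 0 * dig v 0 + (col A 1 * dig v 1 + (col A 2 * dig v 2 +
    (col A 3 * dig v 3 + (col A 4 * dig v 4 + (col A 5 * dig v 5 + col A 6 * dig v 6))))))

/-- A scalar multiple of a packed vector. -/
def smp (c v : ℕ) : ℕ := red 7 (c * v)

/-- The matrix of a packed matrix. -/
def dec (A : ℕ) : M7 := Matrix.of fun i j => (dig A (7 * j.val + i.val) : ZMod 11)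

/-- The vector of a packed vector. -/
def decv (v : ℕ) : V7 := fun i => (dig v i.val : ZMod 11)

theorem B_pos : 0 < B := by norm_num

theorem dig_lt (x t : ℕ) : dig x t < B := Nat.mod_lt _ B_pos

theorem dig_zero (x : ℕ) : dig x 0 = x % B := by simp [dig]

theorem dig_succ (x t : ℕ) : dig x (t + 1) = dig (x / B) t := by
  rw [dig, dig, pow_succ', Nat.div_div_eq_div_mul]

theorem red_digit : ∀ (n x t : ℕ), t < n → dig (red n x) t = dig x t % 11
  | 0, _, _, h => absurd h (Nat.not_lt_zero _)
  | n + 1, x, 0, _ => by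
    rw [dig_zero, dig_zero, red, Nat.add_mul_mod_self_left]
    exact Nat.mod_eq_of_lt (lt_trans (Nat.mod_lt _ (by norm_num)) (by norm_num))
  | n + 1, x, t + 1, h => by
    rw [dig_succ, dig_succ x t, red, Nat.add_mul_div_left _ _ B_pos,
      Nat.div_eq_of_lt (lt_trans (Nat.mod_lt _ (by norm_num)) (by norm_num)), zero_add]
    exact red_digit n (x / B) t (by omega)

theorem red_congr : ∀ (n x y : ℕ), (∀ t < n, dig x t % 11 = dig y t % 11) → red n x = red n y
  | 0, _, _, _ => rfl
  | n + 1, x, y, h => by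
    rw [red, red, red_congr n (x / B) (y / B) fun t ht => by
      rw [← dig_succ, ← dig_succ]; exact h (t + 1) (by omega)]
    have h0 := h 0 (by omega)
    rw [dig_zero, dig_zero] at h0
    rw [h0]

theorem wf_dig {n A : ℕ} (h : red n A = A) {t : ℕ} (ht : t < n) : dig A t < 11 := by
  rw [← h, red_digit n A t ht]
  exact Nat.mod_lt _ (by norm_num)

theorem mod_pow (x : ℕ) : ∀ n, x % B ^ n = ∑ i : Fin n, dig x i.val * B ^ i.val
  | 0 => by simp [Nat.mod_one]
  | n + 1 => by
    rw [Nat.mod_pow_succ, mod_pow x n, Fin.sum_univ_castSucc]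
    simp only [Fin.val_castSucc, Fin.val_last]
    rw [dig, mul_comm (B ^ n)]

theorem col_eq (A k : ℕ) : col A k = ∑ i : Fin 7, dig A (7 * k + i.val) * B ^ i.val := by
  rw [col, mod_pow]
  refine Finset.sum_congr rfl fun i _ => ?_
  rw [dig, dig, Nat.div_div_eq_div_mul, ← pow_add]

theorem spread_eq (A k : ℕ) :
    spread A k = ∑ j : Fin 7, dig A (7 * j.val + k) * (B ^ 7) ^ j.val := by
  simp only [spread, List.range_succ, List.range_zero, List.nil_append, List.foldr_append,
    List.foldr_cons, List.foldr_nil, Fin.sum_univ_seven]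
  simp only [Fin.val_zero, Fin.val_one, Fin.val_two]
  norm_num
  ring

theorem sum_digit : ∀ (n : ℕ) (f : Fin n → ℕ), (∀ t, f t < B) →
    ∀ t : Fin n, dig (∑ s : Fin n, f s * B ^ s.val) t.val = f t
  | 0, _, _, t => t.elim0
  | n + 1, f, hf, t => by
    have hsum : (∑ s : Fin (n + 1), f s * B ^ s.val) =
        f 0 + B * ∑ s : Fin n, f s.succ * B ^ s.val := by
      rw [Fin.sum_univ_succ, Finset.mul_sum]
      simp only [Fin.val_zero, pow_zero, mul_one, Fin.val_succ]
      congr 1
      exact Finset.sum_congr rfl fun s _ => by ring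
    refine Fin.cases ?_ (fun t => ?_) t
    · rw [hsum, Fin.val_zero, dig_zero, Nat.add_mul_mod_self_left, Nat.mod_eq_of_lt (hf 0)]
    · rw [hsum, Fin.val_succ, dig_succ, Nat.add_mul_div_left _ _ B_pos,
        Nat.div_eq_of_lt (hf 0), zero_add]
      exact sum_digit n (fun s => f s.succ) (fun s => hf _) t

theorem cast_mod (x : ℕ) : ((x % 11 : ℕ) : ZMod 11) = (x : ZMod 11) := ZMod.natCast_mod x 11

theorem dec_mm {A C : ℕ} (hA : red 49 A = A) (hC : red 49 C = C) :
    dec (mm A C) = dec A * dec C := by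
  let a : Fin 7 → Fin 7 → ℕ := fun i k => dig A (7 * k.val + i.val)
  let c : Fin 7 → Fin 7 → ℕ := fun k j => dig C (7 * j.val + k.val)
  let f : Fin 7 × Fin 7 → ℕ := fun p => ∑ k : Fin 7, a p.2 k * c k p.1
  have hraw : (col A 0 * spread C 0 + (col A 1 * spread C 1 + (col A 2 * spread C 2 +
      (col A 3 * spread C 3 + (col A 4 * spread C 4 + (col A 5 * spread C 5 +
        col A 6 * spread C 6)))))) =
      ∑ t : Fin (7 * 7), f (finProdFinEquiv.symm t) * B ^ t.val := by
    rw [← finProdFinEquiv.sum_comp (fun t => f (finProdFinEquiv.symm t) * B ^ t.val)]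
    simp only [Equiv.symm_apply_apply]
    have h0 : (∑ k : Fin 7, col A k.val * spread C k.val) =
        ∑ p : Fin 7 × Fin 7, f p * B ^ (finProdFinEquiv p).val := by
      simp only [col_eq, spread_eq, Finset.sum_mul, Finset.mul_sum, f, a, c, Fintype.sum_prod_type,
        finProdFinEquiv_apply_val]
      rw [Finset.sum_comm (γ := Fin 7)]
      conv_lhs => arg 2; ext j; rw [Finset.sum_comm]
      refine Finset.sum_congr rfl fun j _ => Finset.sum_congr rfl fun i _ =>
        Finset.sum_congr rfl fun k _ => ?_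
      rw [← pow_mul, pow_add]
      ring
    rw [← h0, Fin.sum_univ_seven]
    simp only [Fin.val_zero, Fin.val_one, Fin.val_two]
    norm_num
    ring
  have hb : ∀ p, f p < B := by
    intro p
    have : f p ≤ ∑ _k : Fin 7, 100 := by
      refine Finset.sum_le_sum fun k _ => ?_
      have h1 := wf_dig hA (t := 7 * k.val + p.2.val) (by omega)
      have h2 := wf_dig hC (t := 7 * p.1.val + k.val) (by omega)
      simp only [a, c]
      nlinarith
    simp only [Finset.sum_const, Finset.card_univ, Fintype.card_fin, smul_eq_mul] at this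
    unfold B
    omega
  ext i j
  rw [Matrix.mul_apply]
  show ((dig (mm A C) (7 * j.val + i.val) : ℕ) : ZMod 11) = _
  rw [mm, hraw, red_digit _ _ _ (by omega)]
  have ht : (finProdFinEquiv (j, i)).val = 7 * j.val + i.val := by
    rw [finProdFinEquiv_apply_val]; dsimp only; omega
  rw [← ht, sum_digit _ _ (fun t => hb _), Equiv.symm_apply_apply, cast_mod]
  simp [f, a, c, dec]

theorem red_mm (A C : ℕ) : red 49 (mm A C) = mm A C := by
  rw [mm]
  exact red_congr _ _ _ fun t ht => by rw [red_digit _ _ _ ht, Nat.mod_mod]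

theorem decv_mvp {A v : ℕ} (hA : red 49 A = A) (hv : red 7 v = v) :
    decv (mvp A v) = (dec A).mulVec (decv v) := by
  let f : Fin 7 → ℕ := fun i => ∑ k : Fin 7, dig A (7 * k.val + i.val) * dig v k.val
  have hraw : (col A 0 * dig v 0 + (col A 1 * dig v 1 + (col A 2 * dig v 2 +
      (col A 3 * dig v 3 + (col A 4 * dig v 4 + (col A 5 * dig v 5 + col A 6 * dig v 6)))))) =
      ∑ i : Fin 7, f i * B ^ i.val := by
    have h0 : (∑ k : Fin 7, col A k.val * dig v k.val) = ∑ i : Fin 7, f i * B ^ i.val := by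
      simp only [col_eq, Finset.sum_mul, f]
      rw [Finset.sum_comm]
      refine Finset.sum_congr rfl fun i _ => Finset.sum_congr rfl fun k _ => ?_
      ring
    rw [← h0, Fin.sum_univ_seven]
    simp only [Fin.val_zero, Fin.val_one, Fin.val_two]
    norm_num
    ring
  have hb : ∀ i, f i < B := by
    intro i
    have : f i ≤ ∑ _k : Fin 7, 100 := by
      refine Finset.sum_le_sum fun k _ => ?_
      have h1 := wf_dig hA (t := 7 * k.val + i.val) (by omega)
      have h2 := wf_dig hv k.isLt
      nlinarith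
    simp only [Finset.sum_const, Finset.card_univ, Fintype.card_fin, smul_eq_mul] at this
    unfold B
    omega
  funext i
  show ((dig (mvp A v) i.val : ℕ) : ZMod 11) = _
  rw [mvp, hraw, red_digit _ _ _ i.isLt, sum_digit _ _ hb, cast_mod]
  simp [f, dec, decv, Matrix.mulVec, dotProduct]

theorem red_mvp (A v : ℕ) : red 7 (mvp A v) = mvp A v := by
  rw [mvp]
  exact red_congr _ _ _ fun t ht => by rw [red_digit _ _ _ ht, Nat.mod_mod]

theorem decv_smp {c v : ℕ} (hc : c < 11) (hv : red 7 v = v) (hlt : v < B ^ 7) :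
    decv (smp c v) = (c : ZMod 11) • decv v := by
  have hraw : c * v = ∑ i : Fin 7, (c * dig v i.val) * B ^ i.val := by
    conv_lhs => rw [← Nat.mod_eq_of_lt hlt, mod_pow v 7, Finset.mul_sum]
    exact Finset.sum_congr rfl fun i _ => by ring
  funext i
  show ((dig (smp c v) i.val : ℕ) : ZMod 11) = _
  rw [smp, hraw, red_digit _ _ _ i.isLt, sum_digit _ _ (fun t => ?_), cast_mod]
  · simp [decv]
  · have := wf_dig hv t.isLt
    unfold B
    nlinarith

theorem dec_inj {A C : ℕ} (hA : red 49 A = A) (hC : red 49 C = C) (h : dec A = dec C) : A = C := by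
  rw [← hA, ← hC]
  refine red_congr _ _ _ fun t ht => ?_
  have h1 := congrFun (congrFun h ⟨t % 7, Nat.mod_lt _ (by norm_num)⟩) ⟨t / 7, by omega⟩
  simp only [dec, Matrix.of_apply, Nat.div_add_mod] at h1
  exact (ZMod.natCast_eq_natCast_iff' _ _ _).1 h1

theorem decv_inj {v w : ℕ} (hv : red 7 v = v) (hw : red 7 w = w) (h : decv v = decv w) : v = w := by
  rw [← hv, ← hw]
  exact red_congr _ _ _ fun t ht =>
    (ZMod.natCast_eq_natCast_iff' _ _ _).1 (congrFun h ⟨t, ht⟩)

end Cfsg.Agent.Janko.J1
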