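import Cfsg.Agent.Lib.Janko.J1AutCheck
import Cfsg.Agent.Lib.Janko.J1Simple
import Cfsg.Prelude.Def_KGroupFacts

/-!
# Every automorphism of J₁ is inner

An automorphism is adjusted by inner ones until it fixes `sv 1` and `sv 11`; it then maps the
involution `wE`, which inverts `sv 11`, to one of `wE * sv 11 ^ j`, and the orders force `j = 0`.
-/

set_option autoImplicit false

namespace Cfsg.Agent.Janko.J1

open Matrix

/-- The involution inverting `sv 11`. -/
noncomputable def wE : Cfsg.Spor.J1 := trv 284 * sv 4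

theorem mat_wE : mat wE = dec wm := by
  rw [wE, map_mul, mat_trv (by norm_num), mat_sv (by norm_num), wm,
    dec_mm (wf_tr (by norm_num)) (wf_st (by norm_num))]

/-- A letter, as an element. -/
noncomputable def letterE : ℕ → Cfsg.Spor.J1
  | 0 => sv 1
  | 1 => sv 11
  | _ => wE

theorem mat_letterE : ∀ s, mat (letterE s) = dec (letter s) ∧ red 49 (letter s) = letter s
  | 0 => ⟨mat_sv (by norm_num), wf_st (by norm_num)⟩
  | 1 => ⟨mat_sv (by norm_num), wf_st (by norm_num)⟩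
  | _ + 2 => ⟨mat_wE, red_mm _ _⟩

theorem mat_word (last : ℕ) (hl : last < 110) : ∀ l : List ℕ,
    mat ((l.map letterE).prod * sv last) = dec (wordVal l last) ∧
      red 49 (wordVal l last) = wordVal l last
  | [] => ⟨by simp [wordVal, mat_sv hl], wf_st hl⟩
  | s :: l => by
    obtain ⟨h1, h2⟩ := mat_word last hl l
    refine ⟨?_, red_mm _ _⟩
    rw [List.map_cons, List.prod_cons, mul_assoc, map_mul, h1, (mat_letterE s).1]
    exact (dec_mm (mat_letterE s).2 h2).symm

theorem aut_spec :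
    (wordX.map letterE).prod * sv 60 = gX ∧ (wordY.map letterE).prod * sv 94 = gY ∧
    wE * sv 11 = sv 11 ^ 9 * wE ∧ (wE * sv 1) ^ 10 = 1 ∧
    (∀ j < 10, (wE * sv 11 ^ j * sv 1) ^ 10 = 1 → j = 0) ∧
    (∀ g : Cfsg.Spor.J1, Commute g (sv 11) → ∃ j < 10, g = sv 11 ^ j) ∧
    sv 11 * sv 1 = sv 1 ^ 7 * sv 11 := by
  have h := autOK_eq
  simp only [autOK, Bool.and_eq_true, beq_iff_eq] at h
  obtain ⟨⟨⟨⟨⟨⟨⟨hX, hY⟩, hw⟩, h10⟩, hj⟩, hl⟩, hs⟩, hd⟩ := h
  have st1 : red 49 (st 1) = st 1 := wf_st (by norm_num)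
  have st11 : red 49 (st 11) = st 11 := wf_st (by norm_num)
  have m1 : mat (sv 1) = dec (st 1) := mat_sv (by norm_num)
  have m11 : mat (sv 11) = dec (st 11) := mat_sv (by norm_num)
  have hwf : red 49 wm = wm := red_mm _ _
  have h99 : sv 99 = sv 11 ^ 9 := by
    rw [sv_eq (by norm_num)]; simp
  have h7 : sv 7 = sv 1 ^ 7 := by
    rw [sv_eq (by norm_num)]; simp
  refine ⟨mat_injective ?_, mat_injective ?_, mat_injective ?_, ?_, fun j hj10 he => ?_,
    fun g hg => ?_, mat_injective ?_⟩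
  · rw [(mat_word 60 (by norm_num) wordX).1, hX, dec_genX]; rfl
  · rw [(mat_word 94 (by norm_num) wordY).1, hY, dec_genY]; rfl
  · rw [← h99, map_mul, map_mul, mat_wE, m11, mat_sv (by norm_num), ← dec_mm hwf st11,
      ← dec_mm (wf_st (by norm_num)) hwf, hw]
  · rw [← sv_zero]
    refine pow_eq_of_check (A := mm wm (st 1)) ?_ (red_mm _ _) (mat_sv (by norm_num)) h10
    rw [map_mul, mat_wE, m1, dec_mm hwf st1]
  · by_contra h0
    have := of_allBelow hj hj10
    simp only [beq_iff_eq, h0, Bool.or_eq_true, false_or, Bool.not_eq_true', beq_eq_false_iff_ne] at this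
    refine this (dec_inj (red_mpow _ _) (wf_st (by norm_num)) ?_)
    rw [dec_mpow (red_mm _ _), dec_mm (red_mm _ _) st1, dec_mm hwf (red_mpow _ _), dec_mpow st11,
      ← mat_wE, ← m11, ← m1, ← mat_sv (by norm_num : 0 < 110), ← map_pow, ← map_mul, ← map_mul,
      ← map_pow, he, sv_zero]
  · haveI : Fact (Nat.Prime 11) := ⟨by norm_num⟩
    obtain ⟨i, hi, c, hc, he⟩ := exists_line g
    obtain ⟨t1, t2, t3, -⟩ := stab_spec (a := 11) (by norm_num)
    have hfix : i = 0 ∨ i = 284 := by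
      by_contra hni
      push Not at hni
      have := of_allBelow hl hi
      simp only [beq_iff_eq, hni.1, hni.2, Bool.or_eq_true, false_or, Bool.not_eq_true',
        beq_eq_false_iff_ne] at this
      refine this (decv_inj (red_mvp _ _) (red_congr _ _ _ fun m hm => ?_) ?_)
      · rw [smp, red_digit _ _ _ hm, Nat.mod_mod]
      · rw [decv_mvp st11 (wf_nv hi).1, decv_smp t1 (wf_nv hi).1 (wf_nv hi).2]
        refine smul_right_injective V7 hc ?_
        change c • (dec (st 11) *ᵥ decv (nv i)) = c • (geti stabScal 11 : ZMod 11) • decv (nv i)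
        have hcomm : mat g * dec (st 11) = dec (st 11) * mat g := by
          rw [← m11, ← map_mul, ← map_mul, hg.eq]
        rw [← mulVec_smul, ← he, mulVec_mulVec, ← hcomm, ← mulVec_mulVec, t3, mulVec_smul, he,
          smul_comm]
    have hcomm : mat g * dec (st 11) = dec (st 11) * mat g := by
      rw [← m11, ← map_mul, ← map_mul, hg.eq]
    rcases hfix with rfl | rfl
    · obtain ⟨a, ha, rfl⟩ := mem_Hsub_iff.1 (mem_Hsub_of_fix he)
      have := of_allBelow hs ha
      simp only [Bool.and_eq_true, Bool.or_eq_true, beq_iff_eq, Bool.not_eq_true',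
        beq_eq_false_iff_ne] at this
      rcases this.1 with e | e
      · exact ⟨a / 11, by omega, by rw [sv_eq ha, e, pow_zero, one_mul]⟩
      · refine absurd (dec_inj (red_mm _ _) (red_mm _ _) ?_) e
        rw [dec_mm (wf_st ha) st11, dec_mm st11 (wf_st ha), ← mat_sv ha, hcomm]
    · obtain ⟨a, ha, hga⟩ := coset_of_line g.2 (by norm_num) he
      replace hga : mat g = _ := hga
      have := of_allBelow hs ha
      simp only [Bool.and_eq_true, Bool.not_eq_true', beq_eq_false_iff_ne] at this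
      refine absurd (dec_inj (red_mm _ _) (red_mm _ _) ?_) this.2
      rw [dec_mm (red_mm _ _) st11, dec_mm st11 (red_mm _ _),
        dec_mm (wf_tr (by norm_num)) (wf_st ha), ← hga, hcomm]
  · rw [← h7, map_mul, map_mul, m11, m1, mat_sv (by norm_num), ← dec_mm st11 st1,
      ← dec_mm (wf_st (by norm_num)) st11, hd]

theorem d_mul_upow (a : ℕ) : sv 11 * sv 1 ^ a = sv 1 ^ (7 * a) * sv 11 := by
  induction a with
  | zero => simp
  | succ a ih =>
    rw [pow_succ, ← mul_assoc, ih, mul_assoc, aut_spec.2.2.2.2.2.2, ← mul_assoc, ← pow_add]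
    congr 2

theorem dpow_mul_upow (m a : ℕ) : sv 11 ^ m * sv 1 ^ a = sv 1 ^ (7 ^ m * a) * sv 11 ^ m := by
  induction m generalizing a with
  | zero => simp
  | succ m ih =>
    rw [pow_succ, mul_assoc, d_mul_upow, ← mul_assoc, ih, mul_assoc]
    congr 2
    ring

theorem upow_congr {a b : ℕ} (h : a % 11 = b % 11) : sv 1 ^ a = sv 1 ^ b :=
  pow_eq_pow_iff_modEq.2 (by rw [orderOf_sv_one]; exact h)

/-- An automorphism fixing `sv 1` and `sv 11` is trivial. -/
theorem eq_one_of_fix (β : MulAut Cfsg.Spor.J1) (hu : β (sv 1) = sv 1) (hd : β (sv 11) = sv 11) :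
    β = 1 := by
  obtain ⟨hX, hY, hw, h10, hj, hcd, -⟩ := aut_spec
  have hcomm : Commute (wE⁻¹ * β wE) (sv 11) := by
    have h1 : β wE * sv 11 = sv 11 ^ 9 * β wE := by
      conv_lhs => rw [← hd, ← map_mul, hw, map_mul, map_pow, hd]
    have h2 : wE⁻¹ * sv 11 ^ 9 = sv 11 * wE⁻¹ := by
      rw [inv_mul_eq_iff_eq_mul, ← mul_assoc, hw, mul_inv_cancel_right]
    rw [commute_iff_eq, mul_assoc, h1, ← mul_assoc, h2, mul_assoc]
  obtain ⟨j, hj10, hje⟩ := hcd _ hcomm
  rw [inv_mul_eq_iff_eq_mul] at hje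
  have h0 : (wE * sv 11 ^ j * sv 1) ^ 10 = 1 := by
    rw [← hje]
    have := congrArg β h10
    rwa [map_pow, map_mul, hu, map_one] at this
  obtain rfl := hj j hj10 h0
  rw [pow_zero, mul_one] at hje
  let K := (β : Cfsg.Spor.J1 ≃* Cfsg.Spor.J1).toMonoidHom.eqLocus (MonoidHom.id _)
  have hK : ∀ s, letterE s ∈ K := by
    intro s
    match s with
    | 0 => exact hu
    | 1 => exact hd
    | _ + 2 => exact hje
  have hKd : ∀ a < 110, sv a ∈ K := fun a ha => by
    rw [sv_eq ha]; exact mul_mem (pow_mem (hK 0) _) (pow_mem (hK 1) _)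
  have hlist : ∀ l : List ℕ, (l.map letterE).prod ∈ K := fun l =>
    list_prod_mem fun x hx => by
      obtain ⟨s, -, rfl⟩ := List.mem_map.1 hx
      exact hK s
  have hgX : gX ∈ K := hX ▸ mul_mem (hlist _) (hKd _ (by norm_num))
  have hgY : gY ∈ K := hY ▸ mul_mem (hlist _) (hKd _ (by norm_num))
  have htop := eq_top_of_gens hgX hgY
  refine MulEquiv.ext fun x => ?_
  have : x ∈ K := htop ▸ Subgroup.mem_top x
  exact this

/-- Every automorphism of J₁ is inner. -/
theorem mem_inn (α : MulAut Cfsg.Spor.J1) : α ∈ Cfsg.Inn Cfsg.Spor.J1 := by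
  have hconj : ∀ g : Cfsg.Spor.J1, MulAut.conj g ∈ Cfsg.Inn Cfsg.Spor.J1 := fun g => ⟨g, rfl⟩
  -- first adjustment
  have hk : orderOf (α (sv 1)) = 11 := by rw [MulEquiv.orderOf_eq, orderOf_sv_one]
  obtain ⟨g, hg, -⟩ := exists_conj hk
  obtain ⟨k, hgk⟩ := mem_powers_iff_mem_zpowers.2 hg
  replace hgk : sv 1 ^ k = g⁻¹ * α (sv 1) * g := hgk
  have hk0 : k % 11 ≠ 0 := by
    intro h0
    rw [upow_congr (b := 0) (by rw [h0]), pow_zero, eq_comm, mul_eq_one_iff_eq_inv] at hgk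
    have h1 : α (sv 1) = 1 := by
      have := congrArg (fun x => g * x) hgk
      simpa using this
    rw [h1, orderOf_one] at hk
    norm_num at hk
  -- second adjustment
  have hm : ∀ r < 11, r ≠ 0 → ∃ m < 10, 7 ^ m * r % 11 = 1 := by decide
  obtain ⟨m, -, hm1⟩ := hm (k % 11) (Nat.mod_lt _ (by norm_num)) hk0
  set β : MulAut Cfsg.Spor.J1 := MulAut.conj (sv 11 ^ m * g⁻¹) * α with hβ
  have hβu : β (sv 1) = sv 1 := by
    rw [hβ, MulAut.mul_apply, MulAut.conj_apply]
    rw [show sv 11 ^ m * g⁻¹ * α (sv 1) * (sv 11 ^ m * g⁻¹)⁻¹ =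
      sv 11 ^ m * (g⁻¹ * α (sv 1) * g) * (sv 11 ^ m)⁻¹ by group, ← hgk, dpow_mul_upow,
      mul_inv_cancel_right, upow_congr (b := 1) (by
        rw [Nat.mul_mod, ← Nat.mul_mod, Nat.mul_mod _ k, ← Nat.mod_mod k 11, ← Nat.mul_mod]
        exact hm1), pow_one]
  -- third adjustment
  obtain ⟨j, hj⟩ : ∃ j : ℕ, sv 1 ^ j = (sv 11)⁻¹ * β (sv 11) := by
    refine mem_powers_iff_mem_zpowers.2 (mem_zpowers_of_commute ?_)
    have h1 : β (sv 11) * sv 1 = sv 1 ^ 7 * β (sv 11) := by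
      conv_lhs => rw [← hβu, ← map_mul, aut_spec.2.2.2.2.2.2, map_mul, map_pow, hβu]
    have h2 : (sv 11)⁻¹ * sv 1 ^ 7 = sv 1 * (sv 11)⁻¹ := by
      rw [inv_mul_eq_iff_eq_mul, ← mul_assoc, aut_spec.2.2.2.2.2.2, mul_inv_cancel_right]
    rw [commute_iff_eq, mul_assoc, h1, ← mul_assoc, h2, mul_assoc]
  rw [eq_inv_mul_iff_mul_eq] at hj
  set γ : MulAut Cfsg.Spor.J1 := MulAut.conj (sv 1 ^ (3 * j)) * β with hγ
  have hγu : γ (sv 1) = sv 1 := by
    rw [hγ, MulAut.mul_apply, hβu, MulAut.conj_apply, ← pow_succ, pow_succ', mul_inv_cancel_right]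
  have hγd : γ (sv 11) = sv 11 := by
    rw [hγ, MulAut.mul_apply, MulAut.conj_apply, ← hj, mul_inv_eq_iff_eq_mul, d_mul_upow,
      d_mul_upow, ← mul_assoc, ← pow_add]
    congr 1
    exact upow_congr (by omega)
  have hg1 := eq_one_of_fix γ hγu hγd
  have hin : MulAut.conj (sv 1 ^ (3 * j)) * (MulAut.conj (sv 11 ^ m * g⁻¹) * α) ∈
      Cfsg.Inn Cfsg.Spor.J1 := by rw [← hβ, ← hγ, hg1]; exact one_mem _
  exact (Subgroup.mul_mem_cancel_left _ (hconj _)).1
    ((Subgroup.mul_mem_cancel_left _ (hconj _)).1 hin)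

theorem card_out : Nat.card (Cfsg.Out Cfsg.Spor.J1) = 1 := by
  haveI : Subsingleton (Cfsg.Out Cfsg.Spor.J1) :=
    QuotientGroup.subsingleton_iff.2 (eq_top_iff.2 fun a _ => mem_inn a)
  exact Nat.card_unique

end Cfsg.Agent.Janko.J1
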