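import Cfsg.Agent.Lib.Janko.J1Group

/-!
# Checks for the automorphisms of J₁

`wm` inverts the element `st 11` of order ten; the generators of J₁ are explicit words in `st 1`,
`st 11`, `wm`; of the ten candidates `wm * st 11 ^ j` only `j = 0` makes the product with `st 1`
have order dividing ten.
-/

set_option autoImplicit false

namespace Cfsg.Agent.Janko.J1

/-- The packed matrix of the involution inverting `st 11`. -/
def wm : ℕ := mm (tr 284) (st 4)

/-- A letter of a word. -/
def letter : ℕ → ℕ
  | 0 => st 1
  | 1 => st 11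
  | _ => wm

/-- The product of a word. -/
def wordVal (l : List ℕ) (last : ℕ) : ℕ := l.foldr (fun s acc => mm (letter s) acc) (st last)

/-- The word of the first generator. -/
def wordX : List ℕ := [0, 1, 2, 0, 2, 0, 2, 1, 0, 2]

/-- The word of the second generator. -/
def wordY : List ℕ := [0, 0, 1, 1, 2, 0, 2, 1, 0, 2]

/-- The checks for automorphisms. -/
def autOK : Bool :=
  wordVal wordX 60 == genX && wordVal wordY 94 == genY &&
  mm wm (st 11) == mm (st 99) wm &&
  mpow (mm wm (st 1)) 10 == st 0 &&
  allBelow 10 (fun j => j == 0 || !(mpow (mm (mm wm (mpow (st 11) j)) (st 1)) 10 == st 0)) &&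
  allBelow 1596 (fun i => i == 0 || i == 284 ||
    !(mvp (st 11) (nv i) == smp (geti stabScal 11) (nv i))) &&
  allBelow 110 (fun a => (a % 11 == 0 || !(mm (st a) (st 11) == mm (st 11) (st a))) &&
    !(mm (mm (tr 284) (st a)) (st 11) == mm (st 11) (mm (tr 284) (st a)))) &&
  mm (st 11) (st 1) == mm (st 7) (st 11)

theorem autOK_eq : autOK = true := by decide +kernel

end Cfsg.Agent.Janko.J1
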