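/-!
# Data for the centraliser of an involution of J₁
Coordinates of 60 elements forming an alternating group of degree five, their permutations coded in base five,
left multiplication tables by two generators and a parent table.
-/

set_option autoImplicit false

namespace Cfsg.Agent.Janko.J1

def centCoord : List (Nat × Nat) := [(0, 0), (172, 95), (172, 7), (535, 62), (0, 22), (535, 84), (451, 45), (0, 88), (172, 29), (451, 67), (178, 94), (172, 73), (0, 44), (535, 106), (178, 6), (702, 15), (832, 26), (535, 40), (172, 51), (451, 89), (702, 37), (832, 48), (605, 22), (605, 0), (451, 23), (0, 66), (535, 18), (178, 28), (605, 44), (1029, 89), (1029, 67), (178, 72), (451, 1), (702, 59), (832, 70), (1029, 1), (633, 89), (633, 67), (702, 103), (832, 4), (178, 50), (605, 66), (633, 1), (284, 70), (284, 48), (605, 88), (702, 81), (832, 92), (1029, 23), (284, 92), (1221, 26), (1221, 4), (1221, 92), (1029, 45), (633, 23), (1221, 48), (284, 26), (633, 45), (284, 4), (1221, 70)]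

def centPerm : List Nat := [2930, 1358, 2886, 238, 1346, 2902, 2070, 978, 222, 1294, 2146, 1190, 2014, 970, 194, 586, 1922, 1766, 2154, 1138, 2102, 894, 1202, 414, 2826, 542, 1934, 1778, 2230, 1830, 1054, 2582, 482, 2790, 558, 1986, 2758, 742, 1634, 2710, 1110, 2566, 446, 2538, 1490, 1398, 698, 1726, 2642, 1022, 1670, 2678, 366, 298, 1454, 714, 2426, 2410, 334, 2382]

def centSigA : List Nat := [1, 0, 4, 6, 2, 9, 3, 11, 12, 5, 15, 7, 8, 19, 20, 10, 23, 24, 25, 13, 14, 22, 21, 16, 17, 18, 32, 33, 34, 36, 37, 38, 26, 27, 28, 42, 29, 30, 31, 45, 46, 47, 35, 50, 51, 39, 40, 41, 54, 55, 43, 44, 56, 57, 48, 49, 52, 53, 59, 58]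

def centSigB : List Nat := [2, 3, 5, 7, 8, 0, 10, 1, 13, 14, 16, 17, 18, 4, 21, 22, 6, 25, 26, 27, 28, 9, 29, 30, 31, 11, 12, 34, 35, 15, 38, 39, 40, 41, 19, 20, 43, 44, 23, 24, 47, 48, 49, 51, 52, 53, 45, 32, 33, 50, 42, 36, 37, 46, 58, 54, 59, 56, 55, 57]

def centPar : List Nat := [0, 0, 1, 3, 4, 5, 6, 7, 9, 10, 13, 14, 16, 17, 19, 20, 21, 23, 25, 26, 28, 29, 31, 32, 34, 35, 37, 39, 41, 45, 47, 49, 52, 54, 55, 57, 58, 60, 61, 63, 65, 67, 70, 73, 75, 78, 80, 81, 83, 85, 86, 87, 89, 91, 96, 98, 104, 106, 109, 113]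

def centFix : List Nat := [0, 172, 178, 284, 451, 535, 605, 633, 702, 832, 1029, 1221]

end Cfsg.Agent.Janko.J1
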