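import Cfsg.Agent.Lib.Janko.J1Cert
import Cfsg.Agent.Lib.Janko.J1CentData
import Mathlib

/-!
# The checked certificate for the centraliser of an involution of J₁
-/

set_option autoImplicit false

namespace Cfsg.Agent.Janko.J1

/-- Coordinates of the `k`-th element. -/
def cco (k : ℕ) : ℕ × ℕ := centCoord.getD k (0, 0)

/-- The packed matrix of the `k`-th element. -/
def cm (k : ℕ) : ℕ := mm (tr ((cco k).1 % 1596)) (st ((cco k).2 % 110))

/-- The permutation, as a function, of the `k`-th element. -/
def pv (k : ℕ) (j : Fin 5) : Fin 5 :=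
  ⟨centPerm.getD k 0 / 5 ^ j.val % 5, Nat.mod_lt _ (by norm_num)⟩

/-- The first permutation. -/
def pA : Equiv.Perm (Fin 5) := Equiv.swap 0 3 * Equiv.swap 2 4

/-- The second permutation. -/
def pB : Equiv.Perm (Fin 5) := Equiv.swap 0 2 * Equiv.swap 0 1

/-- The checks on the sixty elements. -/
def centOK : Bool :=
  allBelow 60 (fun k => decide (centSigA.getD k 0 < 60) && decide (centSigB.getD k 0 < 60) &&
    mm (cm 1) (cm k) == cm (centSigA.getD k 0) && mm (cm 2) (cm k) == cm (centSigB.getD k 0) &&
    decide (∀ j, pA (pv k j) = pv (centSigA.getD k 0) j) &&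
    decide (∀ j, pB (pv k j) = pv (centSigB.getD k 0) j) &&
    (k == 0 || (decide (centPar.getD k 0 / 2 < k) &&
      (bif centPar.getD k 0 % 2 == 0 then centSigA else centSigB).getD (centPar.getD k 0 / 2) 0 == k))) &&
  allBelow 60 (fun k => allBelow 60 fun l => k == l ||
    (!decide (cco k = cco l) && !(centPerm.getD k 0 == centPerm.getD l 0))) &&
  allBelow 60 (fun k => decide ((cco k).1 < 1596) && decide ((cco k).2 < 110) &&
    !(decide (cco k = (0, 55))) && decide (centPerm.getD k 0 < 3125)) &&
  decide (cco 0 = (0, 0)) && decide (∀ j, pv 0 j = j) && decide (∀ j, pv 1 j = pA j) &&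
  decide (∀ j, pv 2 j = pB j) &&
  mm (cm 1) (st 55) == mm (st 55) (cm 1) && mm (cm 2) (st 55) == mm (st 55) (cm 2)

theorem centOK_eq : centOK = true := by decide +kernel

/-- The checks on lines fixed by the involution. -/
def fixOK : Bool :=
  allBelow 1596 (fun i => centFix.contains i ||
    !(mvp (st 55) (nv i) == smp (geti stabScal 55) (nv i))) &&
  allBelow 110 (fun a => a % 11 == 0 || !(mm (st a) (st 55) == mm (st 55) (st a))) &&
  centFix.length == 12

theorem fixOK_eq : fixOK = true := by decide +kernel

end Cfsg.Agent.Janko.J1
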