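import Cfsg.Agent.Lib.Janko.J1Group
import Cfsg.Agent.Lib.Janko.J1CentCheck
import Mathlib.GroupTheory.SpecificGroups.Alternating
import Mathlib.GroupTheory.NoncommCoprod

/-!
# The centraliser of an involution of J₁

`tInv` is the involution of the stabiliser; its centraliser has order at most `12 * 10`, as it permutes
the twelve lines fixed by `tInv` and meets the stabiliser in a group of order ten, and it contains
`zpowers tInv` times an explicit alternating group of degree five.
-/

set_option autoImplicit false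

namespace Cfsg.Agent.Janko.J1

open Matrix

/-- The involution. -/
noncomputable def tInv : Cfsg.Spor.J1 := sv 55

theorem tInv_ne_one : tInv ≠ 1 := fun h =>
  absurd (sv_injective (by norm_num) (by norm_num) (h.trans sv_zero.symm)) (by norm_num)

theorem tInv_sq : tInv ^ 2 = 1 := by
  rw [← sv_zero]
  exact pow_eq_of_check (mat_sv (by norm_num)) (wf_st (by norm_num)) (mat_sv (by norm_num))
    (by decide +kernel)

theorem orderOf_tInv : orderOf tInv = 2 := orderOf_eq_prime tInv_sq tInv_ne_one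

/-- The `k`-th element of the alternating subgroup. -/
noncomputable def ce (k : ℕ) : Cfsg.Spor.J1 :=
  el (⟨(cco k).1 % 1596, Nat.mod_lt _ (by norm_num)⟩, ⟨(cco k).2 % 110, Nat.mod_lt _ (by norm_num)⟩)

theorem mat_ce (k : ℕ) : mat (ce k) = dec (cm k) := by
  rw [mat_apply, ce, el_val, cm,
    dec_mm (wf_tr (Nat.mod_lt _ (by norm_num))) (wf_st (Nat.mod_lt _ (by norm_num)))]

theorem cent_spec :
    (∀ k < 60, centSigA.getD k 0 < 60 ∧ centSigB.getD k 0 < 60 ∧
      ce 1 * ce k = ce (centSigA.getD k 0) ∧ ce 2 * ce k = ce (centSigB.getD k 0) ∧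
      (∀ j, pA (pv k j) = pv (centSigA.getD k 0) j) ∧
      (∀ j, pB (pv k j) = pv (centSigB.getD k 0) j) ∧
      (k = 0 ∨ (centPar.getD k 0 / 2 < k ∧
        (bif centPar.getD k 0 % 2 == 0 then centSigA else centSigB).getD (centPar.getD k 0 / 2) 0 = k))) ∧
    (∀ k < 60, ∀ l < 60, ce k = ce l → k = l) ∧
    (∀ k < 60, ∀ l < 60, pv k = pv l → k = l) ∧
    (∀ k < 60, ce k ≠ tInv) ∧ ce 0 = 1 ∧ (∀ j, pv 0 j = j) ∧ (∀ j, pv 1 j = pA j) ∧
    (∀ j, pv 2 j = pB j) ∧ Commute (ce 1) tInv ∧ Commute (ce 2) tInv := by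
  have h := centOK_eq
  simp only [centOK, Bool.and_eq_true, beq_iff_eq, decide_eq_true_eq] at h
  obtain ⟨⟨⟨⟨⟨⟨⟨⟨h1, h2⟩, h3⟩, h4⟩, h5⟩, h6⟩, h7⟩, h8⟩, h9⟩ := h
  have hco : ∀ k < 60, (cco k).1 < 1596 ∧ (cco k).2 < 110 := by
    intro k hk
    have := of_allBelow h3 hk
    simp only [Bool.and_eq_true, decide_eq_true_eq] at this
    exact this.1.1
  have hce : ∀ k < 60, ∀ l < 60, ce k = ce l → cco k = cco l := by
    intro k hk l hl he
    have := el_bijective.1 he
    simp only [Prod.mk.injEq, Fin.mk.injEq, Nat.mod_eq_of_lt (hco k hk).1, Nat.mod_eq_of_lt (hco k hk).2,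
      Nat.mod_eq_of_lt (hco l hl).1, Nat.mod_eq_of_lt (hco l hl).2] at this
    exact Prod.ext this.1 this.2
  have hcm : ∀ k, red 49 (cm k) = cm k := fun k => red_mm _ _
  refine ⟨fun k hk => ?_, fun k hk l hl he => ?_, fun k hk l hl he => ?_, fun k hk he => ?_,
    ?_, h5, h6, h7, ?_, ?_⟩
  · have := of_allBelow h1 hk
    simp only [Bool.and_eq_true, Bool.or_eq_true, beq_iff_eq, decide_eq_true_eq] at this
    obtain ⟨⟨⟨⟨⟨⟨a1, a2⟩, a3⟩, a4⟩, a5⟩, a6⟩, a7⟩ := this
    refine ⟨a1, a2, mat_injective ?_, mat_injective ?_, a5, a6, a7⟩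
    · rw [map_mul, mat_ce, mat_ce, mat_ce, ← dec_mm (hcm _) (hcm _), a3]
    · rw [map_mul, mat_ce, mat_ce, mat_ce, ← dec_mm (hcm _) (hcm _), a4]
  · have := of_allBelow (of_allBelow h2 hk) hl
    simp only [Bool.or_eq_true, Bool.and_eq_true, Bool.not_eq_true', beq_iff_eq,
      decide_eq_false_iff_not, beq_eq_false_iff_ne] at this
    rcases this with e | e
    · exact e
    · exact absurd (hce k hk l hl he) e.1
  · have := of_allBelow (of_allBelow h2 hk) hl
    simp only [Bool.or_eq_true, Bool.and_eq_true, Bool.not_eq_true', beq_iff_eq,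
      decide_eq_false_iff_not, beq_eq_false_iff_ne] at this
    rcases this with e | e
    · exact e
    · refine absurd ?_ e.2
      have hb : ∀ m < 60, centPerm.getD m 0 < 3125 := fun m hm => by
        have := of_allBelow h3 hm
        simp only [Bool.and_eq_true, decide_eq_true_eq] at this
        exact this.2
      have e0 := congrArg Fin.val (congrFun he 0)
      have e1 := congrArg Fin.val (congrFun he 1)
      have e2 := congrArg Fin.val (congrFun he 2)
      have e3 := congrArg Fin.val (congrFun he 3)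
      have e4 := congrArg Fin.val (congrFun he 4)
      have := hb k hk
      have := hb l hl
      simp only [pv, Fin.val_zero, Fin.val_one, Fin.val_two, show ((3 : Fin 5) : ℕ) = 3 from rfl,
        show ((4 : Fin 5) : ℕ) = 4 from rfl] at e0 e1 e2 e3 e4
      omega
  · have := of_allBelow h3 hk
    simp only [Bool.and_eq_true, Bool.not_eq_true', decide_eq_true_eq, decide_eq_false_iff_not] at this
    refine this.1.2 ?_
    have h0 := el_bijective.1 (he.trans (rfl : tInv = el (⟨0, by norm_num⟩, ⟨55 % 110, by norm_num⟩)))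
    simp only [Prod.mk.injEq, Fin.mk.injEq, Nat.mod_eq_of_lt (hco k hk).1,
      Nat.mod_eq_of_lt (hco k hk).2] at h0
    exact Prod.ext h0.1 h0.2
  · refine mat_injective ?_
    rw [mat_ce, map_one, cm, h4, Nat.zero_mod, Nat.zero_mod,
      dec_mm (wf_tr (by norm_num)) (wf_st (by norm_num)), dec_tr_zero, dec_st_zero, one_mul]
  · refine mat_injective ?_
    rw [map_mul, map_mul, mat_ce, tInv, mat_sv (by norm_num),
      ← dec_mm (hcm _) (wf_st (by norm_num)), ← dec_mm (wf_st (by norm_num)) (hcm _), h8]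
  · refine mat_injective ?_
    rw [map_mul, map_mul, mat_ce, tInv, mat_sv (by norm_num),
      ← dec_mm (hcm _) (wf_st (by norm_num)), ← dec_mm (wf_st (by norm_num)) (hcm _), h9]

/-- The graph of the isomorphism with the alternating group of degree five. -/
noncomputable def graphA : Subgroup (Cfsg.Spor.J1 × Equiv.Perm (Fin 5)) :=
  Subgroup.closure {(ce 1, pA), (ce 2, pB)}

theorem graphA_spec {x : Cfsg.Spor.J1 × Equiv.Perm (Fin 5)} (hx : x ∈ graphA) :
    ∃ k < 60, x.1 = ce k ∧ ∀ j, x.2 j = pv k j := by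
  obtain ⟨h1, -, -, -, h0, hp0, hpA, hpB, -⟩ := cent_spec
  rw [graphA, ← Subgroup.mem_toSubmonoid,
    Subgroup.closure_toSubmonoid_of_isOfFinOrder (fun y _ => isOfFinOrder_of_finite y)] at hx
  refine Submonoid.closure_induction_left (s := {(ce 1, pA), (ce 2, pB)})
    (motive := fun x _ => ∃ k < 60, x.1 = ce k ∧ ∀ j, x.2 j = pv k j) ?_ ?_ hx
  · exact ⟨0, by norm_num, h0.symm, fun j => by rw [hp0]; rfl⟩
  · rintro y (rfl | rfl) z - ⟨k, hk, hz1, hz2⟩
    · refine ⟨_, (h1 k hk).1, ?_, fun j => ?_⟩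
      · rw [Prod.fst_mul, hz1]; exact (h1 k hk).2.2.1
      · rw [Prod.snd_mul, Equiv.Perm.mul_apply, hz2]; exact (h1 k hk).2.2.2.2.1 j
    · refine ⟨_, (h1 k hk).2.1, ?_, fun j => ?_⟩
      · rw [Prod.fst_mul, hz1]; exact (h1 k hk).2.2.2.1
      · rw [Prod.snd_mul, Equiv.Perm.mul_apply, hz2]; exact (h1 k hk).2.2.2.2.2.1 j

theorem exists_mem_graphA : ∀ k < 60, ∃ p, (ce k, p) ∈ graphA := by
  intro k
  induction k using Nat.strong_induction_on with
  | _ k ih =>
    intro hk
    obtain ⟨h1, -, -, -, h0, -⟩ := cent_spec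
    rcases (h1 k hk).2.2.2.2.2.2 with rfl | ⟨hlt, he⟩
    · exact ⟨1, by rw [h0]; exact one_mem _⟩
    · obtain ⟨p, hp⟩ := ih _ hlt (by omega)
      have hl : centPar.getD k 0 / 2 < 60 := by omega
      cases hb : centPar.getD k 0 % 2 == 0 <;> rw [hb] at he <;>
        simp only [cond_true, cond_false] at he
      · exact ⟨pB * p, by
          rw [← he, ← (h1 _ hl).2.2.2.1]
          exact mul_mem (Subgroup.subset_closure (by simp) : (ce 2, pB) ∈ graphA) hp⟩
      · exact ⟨pA * p, by
          rw [← he, ← (h1 _ hl).2.2.1]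
          exact mul_mem (Subgroup.subset_closure (by simp) : (ce 1, pA) ∈ graphA) hp⟩

/-- The first projection on the graph. -/
noncomputable def toJ : graphA →* Cfsg.Spor.J1 := (MonoidHom.fst _ _).comp graphA.subtype

/-- The second projection on the graph. -/
noncomputable def toPerm : graphA →* Equiv.Perm (Fin 5) := (MonoidHom.snd _ _).comp graphA.subtype

theorem toJ_injective : Function.Injective toJ := by
  intro x y h
  obtain ⟨k, hk, hx1, hx2⟩ := graphA_spec x.2
  obtain ⟨l, hl, hy1, hy2⟩ := graphA_spec y.2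
  change x.1.1 = y.1.1 at h
  obtain rfl := cent_spec.2.1 k hk l hl (hx1.symm.trans (h.trans hy1))
  exact Subtype.ext (Prod.ext h (Equiv.ext fun j => (hx2 j).trans (hy2 j).symm))

theorem toPerm_injective : Function.Injective toPerm := by
  intro x y h
  obtain ⟨k, hk, hx1, hx2⟩ := graphA_spec x.2
  obtain ⟨l, hl, hy1, hy2⟩ := graphA_spec y.2
  change x.1.2 = y.1.2 at h
  obtain rfl := cent_spec.2.2.1 k hk l hl (funext fun j => by rw [← hx2, ← hy2, h])
  exact Subtype.ext (Prod.ext (hx1.trans hy1.symm) h)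

theorem card_graphA : Nat.card graphA = 60 := by
  refine (Nat.card_eq_of_bijective (α := Fin 60)
    (fun k => (⟨_, (exists_mem_graphA k.val k.isLt).choose_spec⟩ : graphA)) ⟨?_, ?_⟩).symm.trans
    (Nat.card_fin 60)
  · exact fun a b h => Fin.ext (cent_spec.2.1 _ a.isLt _ b.isLt (congrArg (fun x : graphA => x.1.1) h))
  · intro x
    obtain ⟨k, hk, hx1, -⟩ := graphA_spec x.2
    exact ⟨⟨k, hk⟩, toJ_injective hx1.symm⟩

/-- The isomorphism with the alternating group. -/
theorem nonempty_graphA_iso : Nonempty (alternatingGroup (Fin 5) ≃* graphA) := by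
  have hc : Nat.card toPerm.range = 60 := by
    rw [← Nat.card_congr (MonoidHom.ofInjective toPerm_injective).toEquiv, card_graphA]
  have hi : toPerm.range.index = 2 := by
    have := Subgroup.card_mul_index toPerm.range
    rw [hc, Nat.card_perm, Nat.card_fin] at this
    norm_num [Nat.factorial] at this
    omega
  rw [← Equiv.Perm.eq_alternatingGroup_of_index_eq_two hi]
  exact ⟨(MonoidHom.ofInjective toPerm_injective).symm⟩

theorem commute_toJ (x : graphA) : Commute (toJ x) tInv := by
  obtain ⟨-, -, -, -, -, -, -, -, hA, hB⟩ := cent_spec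
  have h : graphA ≤ (Subgroup.centralizer {tInv}).comap (MonoidHom.fst _ _) := by
    refine (Subgroup.closure_le _).2 ?_
    rintro y (rfl | rfl)
    · exact Subgroup.mem_centralizer_singleton_iff.2 hA.eq
    · exact Subgroup.mem_centralizer_singleton_iff.2 hB.eq
  exact Subgroup.mem_centralizer_singleton_iff.1 (h x.2)

theorem card_centralizer_le : Nat.card (Subgroup.centralizer ({tInv} : Set Cfsg.Spor.J1)) ≤ 120 := by
  haveI : Fact (Nat.Prime 11) := ⟨by norm_num⟩
  have h := fixOK_eq
  simp only [fixOK, Bool.and_eq_true, beq_iff_eq] at h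
  obtain ⟨⟨hf, hs⟩, hlen⟩ := h
  set C := Subgroup.centralizer ({tInv} : Set Cfsg.Spor.J1) with hC
  set K := Hsub.subgroupOf C with hK
  have hcK : Nat.card K ≤ 10 := by
    rw [← Nat.card_fin 10]
    have key : ∀ g : K, ∃ b : Fin 10, g.1.1 = sv (11 * b.val) := by
      rintro ⟨⟨g, hgC⟩, hg⟩
      obtain ⟨a, ha, rfl⟩ := mem_Hsub_iff.1 hg
      have := of_allBelow hs ha
      simp only [Bool.or_eq_true, beq_iff_eq, Bool.not_eq_true', beq_eq_false_iff_ne] at this
      rcases this with e | e
      · exact ⟨⟨a / 11, by omega⟩, by rw [Nat.mul_div_cancel' (Nat.dvd_of_mod_eq_zero e)]⟩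
      · refine absurd (dec_inj (red_mm _ _) (red_mm _ _) ?_) e
        rw [dec_mm (wf_st ha) (wf_st (by norm_num)), dec_mm (wf_st (by norm_num)) (wf_st ha),
          ← mat_sv ha, ← mat_sv (by norm_num), ← map_mul, ← map_mul]
        exact congrArg mat (Subgroup.mem_centralizer_singleton_iff.1 hgC)
    choose f hfs using key
    exact Nat.card_le_card_of_injective f fun x y hxy =>
      Subtype.ext (Subtype.ext (by rw [hfs x, hfs y, hxy]))
  have hq : Nat.card (C ⧸ K) ≤ 12 := by
    rw [← hlen, ← Fintype.card_fin centFix.length, ← Nat.card_eq_fintype_card]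
    have key : ∀ q : C ⧸ K, ∃ (n : Fin centFix.length) (c : ZMod 11),
        c ≠ 0 ∧ mat q.out.1 *ᵥ v0 = c • decv (nv centFix[n.val]) := by
      intro q
      obtain ⟨i, hi, c, hc, he⟩ := exists_line q.out.1
      have hmem : i ∈ centFix := by
        by_contra hni
        have := of_allBelow hf hi
        simp only [List.contains_iff_mem, hni, Bool.or_eq_true, false_or, Bool.not_eq_true',
          beq_eq_false_iff_ne] at this
        obtain ⟨t1, t2, t3, -⟩ := stab_spec (a := 55) (by norm_num)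
        refine this (decv_inj (red_mvp _ _) (red_congr _ _ _ fun m hm => ?_) ?_)
        · rw [smp, red_digit _ _ _ hm, Nat.mod_mod]
        · rw [decv_mvp (wf_st (by norm_num)) (wf_nv hi).1, decv_smp t1 (wf_nv hi).1 (wf_nv hi).2]
          refine smul_right_injective V7 hc ?_
          change c • (dec (st 55) *ᵥ decv (nv i)) = c • (geti stabScal 55 : ZMod 11) • decv (nv i)
          have hcomm : mat q.out.1 * dec (st 55) = dec (st 55) * mat q.out.1 := by
            rw [← mat_sv (by norm_num), ← map_mul, ← map_mul]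
            exact congrArg mat (Subgroup.mem_centralizer_singleton_iff.1 q.out.2)
          rw [← mulVec_smul, ← he, mulVec_mulVec, ← hcomm, ← mulVec_mulVec, t3, mulVec_smul,
            he, smul_comm]
      obtain ⟨n, hn, rfl⟩ := List.getElem_of_mem hmem
      exact ⟨⟨n, hn⟩, c, hc, he⟩
    choose f c hc hfs using key
    refine Nat.card_le_card_of_injective f fun x y hxy => ?_
    rw [← QuotientGroup.out_eq' x, ← QuotientGroup.out_eq' y, QuotientGroup.eq]
    refine mem_Hsub_of_fix (c := (c x)⁻¹ * c y) ?_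
    have hy : mat y.out.1 *ᵥ v0 = ((c x)⁻¹ * c y) • (mat x.out.1 *ᵥ v0) := by
      rw [hfs y, hfs x, hxy, smul_smul, mul_assoc, mul_comm (c y), ← mul_assoc,
        inv_mul_cancel₀ (hc x), one_mul]
    change mat (x.out.1⁻¹ * y.out.1) *ᵥ v0 = _
    rw [map_mul, ← mulVec_mulVec, hy, mulVec_smul, mulVec_mulVec, ← map_mul, inv_mul_cancel, map_one,
      one_mulVec]
  rw [Subgroup.card_eq_card_quotient_mul_card_subgroup K]
  calc _ ≤ 12 * 10 := Nat.mul_le_mul hq hcK
    _ = 120 := rfl

theorem nonempty_centralizer_iso :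
    Nonempty (Subgroup.centralizer ({tInv} : Set Cfsg.Spor.J1) ≃*
      Multiplicative (ZMod 2) × alternatingGroup (Fin 5)) := by
  haveI : Fact (Nat.Prime 2) := ⟨Nat.prime_two⟩
  set C := Subgroup.centralizer ({tInv} : Set Cfsg.Spor.J1) with hC
  let Φ : Subgroup.zpowers tInv × graphA →* Cfsg.Spor.J1 :=
    (Subgroup.zpowers tInv).subtype.noncommCoprod toJ fun z y => by
      obtain ⟨n, hn⟩ := Subgroup.mem_zpowers_iff.1 z.2
      rw [Subgroup.coe_subtype, ← hn]
      exact ((commute_toJ y).symm.zpow_left n)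
  have hmem : ∀ p, Φ p ∈ C := fun p => by
    refine mul_mem ?_ (Subgroup.mem_centralizer_singleton_iff.2 (commute_toJ p.2).eq)
    exact (Subgroup.zpowers_le.2 (Subgroup.mem_centralizer_singleton_iff.2 rfl)) p.1.2
  have hinj : Function.Injective (Φ.codRestrict C hmem) := by
    refine (injective_iff_map_eq_one _).2 fun ⟨z, y⟩ h => ?_
    replace h : (z : Cfsg.Spor.J1) * toJ y = 1 := congrArg Subtype.val h
    have hz : (z : Cfsg.Spor.J1) = 1 := by
      obtain ⟨n, hn⟩ := Subgroup.mem_zpowers_iff.1 z.2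
      rcases Int.emod_two_eq_zero_or_one n with e | e
      · rw [← hn, zpow_eq_one_iff_modEq, orderOf_tInv]; exact e
      · exfalso
        have hzt : (z : Cfsg.Spor.J1) = tInv := by
          rw [← hn, ← zpow_mod_orderOf, orderOf_tInv]
          simp [e]
        rw [hzt] at h
        obtain ⟨k, hk, hk1, -⟩ := graphA_spec y.2
        refine cent_spec.2.2.2.1 k hk (hk1.symm.trans ?_)
        have ht2 : tInv * tInv = 1 := by rw [← pow_two, tInv_sq]
        exact mul_left_cancel (h.trans ht2.symm)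
    rw [hz, one_mul] at h
    exact Prod.ext (Subtype.ext hz) (toJ_injective (h.trans toJ.map_one.symm))
  have hcard : Nat.card (Subgroup.zpowers tInv × graphA) = 120 := by
    rw [Nat.card_prod, card_graphA, Nat.card_zpowers, orderOf_tInv]
  have hbij := (Nat.bijective_iff_injective_and_card _).2 ⟨hinj, le_antisymm
    (Nat.card_le_card_of_injective _ hinj) (hcard.symm ▸ card_centralizer_le)⟩
  obtain ⟨e⟩ := nonempty_graphA_iso
  exact ⟨(MulEquiv.ofBijective _ hbij).symm.trans (MulEquiv.prodCongr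
    (mulEquivOfPrimeCardEq (p := 2) (by rw [Nat.card_zpowers, orderOf_tInv])
      (by rw [Nat.card_congr Multiplicative.toAdd, Nat.card_zmod])) e.symm)⟩

end Cfsg.Agent.Janko.J1
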