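import Cfsg.Agent.Lib.Janko.J1Arith
import Cfsg.Agent.Lib.Janko.J1Data

/-!
# The checked certificate for J₁
-/

set_option autoImplicit false

namespace Cfsg.Agent.Janko.J1

/-- Chunked list access. -/
def geti (L : List (List ℕ)) (i : ℕ) : ℕ := (L.getD (i / 40) []).getD (i % 40) 0

/-- Chunked list access, pairs. -/
def getp (L : List (List (ℕ × ℕ))) (i : ℕ) : ℕ × ℕ := (L.getD (i / 40) []).getD (i % 40) (0, 0)

/-- The transversal. -/
def tr (i : ℕ) : ℕ := geti transData i
/-- The stabiliser. -/
def st (a : ℕ) : ℕ := geti stabData a
/-- The orbit vectors. -/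
def nv (i : ℕ) : ℕ := geti vecData i

/-- Search for a vector among the orbit vectors. -/
def look (k : ℕ) : Option ℕ :=
  ((lookData.reverse.find? (fun c => decide ((c.getD 0 (0, 0)).1 ≤ k))).bind
    (fun c => c.find? (fun p => p.1 == k))).map Prod.snd

/-- Check over `[0, n)`. -/
def allBelow (n : ℕ) (f : ℕ → Bool) : Bool := (List.range n).all f

theorem of_allBelow {n : ℕ} {f : ℕ → Bool} (h : allBelow n f = true) {i : ℕ} (hi : i < n) :
    f i = true := List.all_eq_true.1 h i (List.mem_range.2 hi)

/-- Well-formedness of the data. -/
def wfOK : Bool :=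
  allBelow 1596 (fun i => red 49 (tr i) == tr i && red 7 (nv i) == nv i && decide (nv i < B ^ 7)) &&
  allBelow 110 (fun a => red 49 (st a) == st a) && red 49 genX == genX && red 49 genY == genY

/-- The edge equations. -/
def edgeOK : Bool :=
  allBelow 3192 fun e =>
    decide ((getp edgeData e).1 < 1596) && decide ((getp edgeData e).2 < 110) &&
    mm (bif e % 2 == 0 then genX else genY) (tr (e / 2)) ==
      mm (tr (getp edgeData e).1) (st (getp edgeData e).2)

/-- The transversal consists of elements of the group. -/
def parOK : Bool :=
  allBelow 1596 fun i => i == 0 ||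
    (decide (geti parData i / 2 < i) && getp edgeData (geti parData i) == (i, 0) &&
      decide (geti parData i < 3192))

/-- The vectors moved by the transversal. -/
def vecOK : Bool :=
  allBelow 1596 fun i => decide (geti scalData i < 11) && decide (0 < geti scalData i) &&
    mvp (tr i) (nv 0) == smp (geti scalData i) (nv i)

/-- The first non-zero digit is one. -/
def leadOne (v : ℕ) : Bool :=
  (List.range 7).any fun k => dig v k == 1 && (List.range k).all fun l => dig v l == 0

/-- The lines are distinct. -/
def lookOK : Bool := allBelow 1596 fun i => look (nv i) == some i && leadOne (nv i)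

/-- The stabiliser fixes the base line and is closed. -/
def stabOK : Bool :=
  (allBelow 110 fun a => decide (geti stabScal a < 11) && decide (0 < geti stabScal a) &&
    mvp (st a) (nv 0) == smp (geti stabScal a) (nv 0) &&
    decide (geti uMap a < 110) && decide (geti dMap a < 110) &&
    mm (st 1) (st a) == st (geti uMap a) && mm (st 11) (st a) == st (geti dMap a) &&
    (a == 0 || (bif a % 11 == 0 then mm (st 11) (st (a - 11)) == st a
      else mm (st 1) (st (a - 1)) == st a))) &&
  (getp edgeData 11).2 == 1 && (getp edgeData 189).2 == 11 &&
  allBelow 110 (fun a => allBelow 110 fun b => a == b || !(st a == st b))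

theorem wfOK_eq : wfOK = true := by decide +kernel
theorem parOK_eq : parOK = true := by decide +kernel
theorem vecOK_eq : vecOK = true := by decide +kernel
theorem lookOK_eq : lookOK = true := by decide +kernel
theorem stabOK_eq : stabOK = true := by decide +kernel

end Cfsg.Agent.Janko.J1
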