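import Cfsg.Agent.Lib.Janko.J1Cert

/-!
# The edge equations of the J₁ certificate (separate file: the slowest check)
-/

set_option autoImplicit false

namespace Cfsg.Agent.Janko.J1

theorem edgeOK_eq : edgeOK = true := by decide +kernel

end Cfsg.Agent.Janko.J1
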