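import Cfsg.Agent.Lib.Janko.J1Order

/-!
# The group J₁ with coordinates

`mat` is the underlying matrix as a monoid homomorphism; `sv a` is the element of the stabiliser with
index `a`, where `sv 1` has order 11 and `sv 11` order 10; `Hsub` is the stabiliser of the base line
(order 110).
-/

set_option autoImplicit false

namespace Cfsg.Agent.Janko.J1

open Matrix

/-- The underlying matrix. -/
def mat : Cfsg.Spor.J1 →* M7 := (Units.coeHom M7).comp Cfsg.Spor.J1.subtype

theorem mat_apply (g : Cfsg.Spor.J1) : mat g = ((g : GL (Fin 7) (ZMod 11)) : M7) := rfl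

theorem mat_injective : Function.Injective mat := fun _ _ h => Subtype.ext (Units.ext h)

theorem exists_coord (g : Cfsg.Spor.J1) :
    ∃ i < 1596, ∃ a < 110, mat g = dec (tr i) * dec (st a) := exists_eq g.2

/-- The stabiliser element with index `a`. -/
noncomputable def sv (a : ℕ) : Cfsg.Spor.J1 :=
  el (⟨0, by norm_num⟩, ⟨a % 110, Nat.mod_lt _ (by norm_num)⟩)

theorem mat_sv {a : ℕ} (ha : a < 110) : mat (sv a) = dec (st a) := by
  rw [mat_apply, sv, el_val]
  simp only [Nat.mod_eq_of_lt ha, dec_tr_zero, one_mul]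

/-- The transversal element with index `i`. -/
noncomputable def trv (i : ℕ) : Cfsg.Spor.J1 :=
  el (⟨i % 1596, Nat.mod_lt _ (by norm_num)⟩, ⟨0, by norm_num⟩)

theorem mat_trv {i : ℕ} (hi : i < 1596) : mat (trv i) = dec (tr i) := by
  rw [mat_apply, trv, el_val]
  simp only [Nat.mod_eq_of_lt hi, dec_st_zero, mul_one]

theorem sv_zero : sv 0 = 1 := mat_injective (by rw [mat_sv (by norm_num), dec_st_zero, map_one])

/-- Power of a packed matrix. -/
def mpow (A : ℕ) : ℕ → ℕ
  | 0 => tr 0
  | n + 1 => mm A (mpow A n)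

theorem red_mpow (A : ℕ) : ∀ n, red 49 (mpow A n) = mpow A n
  | 0 => wf_tr (by norm_num)
  | _ + 1 => red_mm _ _

theorem dec_mpow {A : ℕ} (hA : red 49 A = A) : ∀ n, dec (mpow A n) = dec A ^ n
  | 0 => by rw [mpow, dec_tr_zero, pow_zero]
  | n + 1 => by rw [mpow, dec_mm hA (red_mpow A n), dec_mpow hA n, pow_succ']

/-- A power equation, checked on packed matrices. -/
theorem pow_eq_of_check {g : Cfsg.Spor.J1} {A C n : ℕ} (hg : mat g = dec A) (hA : red 49 A = A)
    {h : Cfsg.Spor.J1} (hh : mat h = dec C) (he : mpow A n = C) : g ^ n = h :=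
  mat_injective (by rw [map_pow, hg, ← dec_mpow hA, he, hh])

theorem sv_one_pow : sv 1 ^ 11 = 1 := by
  rw [← sv_zero]
  exact pow_eq_of_check (mat_sv (by norm_num)) (wf_st (by norm_num)) (mat_sv (by norm_num))
    (by decide +kernel)

theorem sv_eleven_pow : sv 11 ^ 10 = 1 := by
  rw [← sv_zero]
  exact pow_eq_of_check (mat_sv (by norm_num)) (wf_st (by norm_num)) (mat_sv (by norm_num))
    (by decide +kernel)

theorem sv_injective {a b : ℕ} (ha : a < 110) (hb : b < 110) (h : sv a = sv b) : a = b :=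
  st_injective ha hb (by rw [← mat_sv ha, ← mat_sv hb, h])

theorem orderOf_sv_one : orderOf (sv 1) = 11 := by
  haveI : Fact (Nat.Prime 11) := ⟨by norm_num⟩
  refine orderOf_eq_prime sv_one_pow fun h => ?_
  rw [← sv_zero] at h
  exact absurd (sv_injective (by norm_num) (by norm_num) h) (by norm_num)

theorem sv_eq {a : ℕ} (ha : a < 110) : sv a = sv 1 ^ (a % 11) * sv 11 ^ (a / 11) := by
  induction a using Nat.strong_induction_on with
  | _ a ih =>
    by_cases h0 : a = 0
    · subst h0; simp [sv_zero]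
    rcases (stab_spec ha).2.2.2.2.2.2.2 h0 with ⟨hm, h11, he⟩ | he
    · have := ih (a - 11) (by omega) (by omega)
      rw [show (a - 11) % 11 = 0 by omega, pow_zero, one_mul,
        show (a - 11) / 11 = a / 11 - 1 by omega] at this
      rw [hm, pow_zero, one_mul, show a / 11 = a / 11 - 1 + 1 by omega, pow_succ', ← this]
      exact mat_injective (by
        rw [map_mul, mat_sv ha, mat_sv (by norm_num), mat_sv (by omega), he])
    · have := ih (a - 1) (by omega) (by omega)
      by_cases hm : a % 11 = 0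
      · exfalso
        have h1 : sv a = sv 1 * sv (a - 1) := mat_injective (by
          rw [map_mul, mat_sv ha, mat_sv (by norm_num), mat_sv (by omega), he])
        rw [this, ← mul_assoc, ← pow_succ', show (a - 1) % 11 + 1 = 11 by omega, sv_one_pow,
          one_mul] at h1
        have h2 := ih (11 * ((a - 1) / 11)) (by omega) (by omega)
        rw [show 11 * ((a - 1) / 11) % 11 = 0 by omega, pow_zero, one_mul,
          show 11 * ((a - 1) / 11) / 11 = (a - 1) / 11 by omega, ← h1] at h2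
        have := sv_injective (by omega) ha h2
        omega
      · rw [show a % 11 = (a - 1) % 11 + 1 by omega, show a / 11 = (a - 1) / 11 by omega,
          pow_succ', mul_assoc, ← this]
        exact mat_injective (by
          rw [map_mul, mat_sv ha, mat_sv (by norm_num), mat_sv (by omega), he])

/-- The stabiliser of the base line. -/
def Hsub : Subgroup Cfsg.Spor.J1 where
  carrier := {g | ∃ a < 110, mat g = dec (st a)}
  one_mem' := ⟨0, by norm_num, by rw [map_one, dec_st_zero]⟩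
  mul_mem' := by
    rintro g h ⟨a, ha, hga⟩ ⟨b, hb, hhb⟩
    obtain ⟨c, hc, hce⟩ := st_mul ha hb
    exact ⟨c, hc, by rw [map_mul, hga, hhb, hce]⟩
  inv_mem' := by
    rintro g hg
    have key : ∀ n : ℕ, ∃ a < 110, mat (g ^ n) = dec (st a) := by
      intro n
      induction n with
      | zero => exact ⟨0, by norm_num, by rw [pow_zero, map_one, dec_st_zero]⟩
      | succ n ih =>
        obtain ⟨a, ha, hga⟩ := ih
        obtain ⟨b, hb, hgb⟩ := hg
        obtain ⟨c, hc, hce⟩ := st_mul ha hb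
        exact ⟨c, hc, by rw [pow_succ, map_mul, hga, hgb, hce]⟩
    rw [Set.mem_setOf_eq, inv_eq_of_mul_eq_one_right (mul_pow_sub_one
      (orderOf_pos g).ne' g |>.trans (pow_orderOf_eq_one g))]
    exact key _

theorem mem_Hsub_iff {g : Cfsg.Spor.J1} : g ∈ Hsub ↔ ∃ a < 110, g = sv a :=
  ⟨fun ⟨a, ha, he⟩ => ⟨a, ha, mat_injective (he.trans (mat_sv ha).symm)⟩,
    fun ⟨a, ha, he⟩ => ⟨a, ha, by rw [he, mat_sv ha]⟩⟩

theorem card_Hsub : Nat.card Hsub = 110 := by
  rw [← Nat.card_congr (Equiv.ofBijective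
    (fun a : Fin 110 => (⟨sv a.val, mem_Hsub_iff.2 ⟨a.val, a.isLt, rfl⟩⟩ : Hsub)) ⟨?_, ?_⟩)]
  · simp
  · exact fun a b h => Fin.ext (sv_injective a.isLt b.isLt (Subtype.ext_iff.1 h))
  · rintro ⟨g, hg⟩
    obtain ⟨a, ha, rfl⟩ := mem_Hsub_iff.1 hg
    exact ⟨⟨a, ha⟩, rfl⟩

/-- An element fixing the base line lies in the stabiliser. -/
theorem mem_Hsub_of_fix {g : Cfsg.Spor.J1} {c : ZMod 11} (h : mat g *ᵥ v0 = c • v0) : g ∈ Hsub :=
  fix_st g.2 h

/-- Every image of the base vector is a scalar multiple of an orbit vector. -/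
theorem exists_line (g : Cfsg.Spor.J1) :
    ∃ i < 1596, ∃ c : ZMod 11, c ≠ 0 ∧ mat g *ᵥ v0 = c • decv (nv i) := by
  haveI : Fact (Nat.Prime 11) := ⟨by norm_num⟩
  obtain ⟨i, hi, a, ha, he⟩ := exists_coord g
  refine ⟨i, hi, (geti stabScal a : ZMod 11) * geti scalData i, mul_ne_zero (fun h0 => ?_)
    (tr_v0 hi).2, ?_⟩
  · have h1 := (stab_spec ha).1
    have := Nat.le_of_dvd (stab_spec ha).2.1 ((ZMod.natCast_eq_zero_iff _ 11).1 h0)
    omega
  · rw [he, ← mulVec_mulVec, (stab_spec ha).2.2.1, mulVec_smul, (tr_v0 hi).1, smul_smul]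

/-- The checks on the element of order 11. -/
def uOK : Bool :=
  (geti stabScal 1 == 1) &&
  allBelow 1596 (fun i => i == 0 || !(mvp (st 1) (nv i) == nv i)) &&
  allBelow 110 (fun a => decide (a < 11) || !(mm (st a) (st 1) == mm (st 1) (st a)))

theorem uOK_eq : uOK = true := by decide +kernel

theorem uOK_spec : geti stabScal 1 = 1 ∧ (∀ i < 1596, i ≠ 0 → mvp (st 1) (nv i) ≠ nv i) ∧
    (∀ a < 110, ¬a < 11 → mm (st a) (st 1) ≠ mm (st 1) (st a)) := by
  have h := uOK_eq
  simp only [uOK, Bool.and_eq_true, beq_iff_eq] at h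
  refine ⟨h.1.1, fun i hi h0 => ?_, fun a ha h11 => ?_⟩
  · have := of_allBelow h.1.2 hi
    simp only [Bool.or_eq_true, beq_iff_eq, h0, false_or, Bool.not_eq_true', beq_eq_false_iff_ne] at this
    exact this
  · have := of_allBelow h.2 ha
    simp only [Bool.or_eq_true, decide_eq_true_eq, h11, false_or, Bool.not_eq_true',
      beq_eq_false_iff_ne] at this
    exact this

/-- An element normalising the group generated by `sv 1` fixes the base line. -/
theorem mem_Hsub_of_normalises {g : Cfsg.Spor.J1} {k : ℕ} (h : sv 1 * g = g * sv 1 ^ k) :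
    g ∈ Hsub := by
  haveI : Fact (Nat.Prime 11) := ⟨by norm_num⟩
  obtain ⟨hs, hfix, -⟩ := uOK_spec
  have hu : mat (sv 1) *ᵥ v0 = v0 := by
    rw [mat_sv (by norm_num), (stab_spec (by norm_num)).2.2.1, hs, Nat.cast_one, one_smul]
  have hpow : ∀ n : ℕ, mat (sv 1 ^ n) *ᵥ v0 = v0 := by
    intro n
    induction n with
    | zero => rw [pow_zero, map_one, one_mulVec]
    | succ n ih => rw [pow_succ, map_mul, ← mulVec_mulVec, hu, ih]
  obtain ⟨i, hi, c, hc, he⟩ := exists_line g
  by_cases h0 : i = 0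
  · subst h0; exact mem_Hsub_of_fix he
  exfalso
  refine hfix i hi h0 (decv_inj (red_mvp _ _) (wf_nv hi).1 ?_)
  rw [decv_mvp (wf_st (by norm_num)) (wf_nv hi).1, ← mat_sv (by norm_num)]
  refine smul_right_injective V7 hc ?_
  change c • (mat (sv 1) *ᵥ decv (nv i)) = c • decv (nv i)
  rw [← mulVec_smul, ← he, mulVec_mulVec, ← map_mul, h, map_mul, ← mulVec_mulVec, hpow]

/-- The centraliser of the element of order 11. -/
theorem mem_zpowers_of_commute {g : Cfsg.Spor.J1} (h : Commute g (sv 1)) :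
    g ∈ Subgroup.zpowers (sv 1) := by
  obtain ⟨a, ha, rfl⟩ := mem_Hsub_iff.1 (mem_Hsub_of_normalises (g := g) (k := 1)
    (by rw [pow_one]; exact h.eq.symm))
  by_cases h11 : a < 11
  · rw [sv_eq ha, Nat.div_eq_of_lt h11, pow_zero, mul_one]
    exact pow_mem (Subgroup.mem_zpowers _) _
  · refine absurd (dec_inj (red_mm _ _) (red_mm _ _) ?_) (uOK_spec.2.2 a ha h11)
    rw [dec_mm (wf_st ha) (wf_st (by norm_num)), dec_mm (wf_st (by norm_num)) (wf_st ha),
      ← mat_sv ha, ← mat_sv (by norm_num), ← map_mul, ← map_mul, h.eq]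

theorem normalizer_le_Hsub :
    Subgroup.normalizer (Subgroup.zpowers (sv 1) : Set Cfsg.Spor.J1) ≤ Hsub := by
  intro g hg
  have h1 : g⁻¹ * sv 1 * g ∈ Subgroup.zpowers (sv 1) := by
    have h2 := (Subgroup.mem_normalizer_iff.1 (inv_mem hg) (sv 1)).1 (Subgroup.mem_zpowers _)
    simpa using h2
  obtain ⟨k, hk⟩ := (mem_powers_iff_mem_zpowers.2 h1)
  refine mem_Hsub_of_normalises (k := k) ?_
  change sv 1 ^ k = g⁻¹ * sv 1 * g at hk
  rw [hk]; group

end Cfsg.Agent.Janko.J1
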