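import Cfsg.Agent.Lib.Janko.J1CertEdge
import Cfsg.Prelude.Def_Spor_J1

/-!
# The order of J₁ and the stabiliser of a line

`exists_eq`: every element is a transversal element times an element of the stabiliser;
`card_J1`: the order is 175560; `fix_st`: an element fixing the base line lies in the stabiliser;
`eq_of_line`: the orbit lines are distinct.
-/

set_option autoImplicit false

namespace Cfsg.Agent.Janko.J1

open Matrix

/-- The underlying matrices of elements of J₁. -/
def InG (M : M7) : Prop := ∃ g ∈ Cfsg.Spor.J1, (g : M7) = M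

/-- The base vector. -/
def v0 : V7 := decv (nv 0)

theorem wf_tr {i : ℕ} (hi : i < 1596) : red 49 (tr i) = tr i := by
  have h := wfOK_eq
  simp only [wfOK, Bool.and_eq_true, beq_iff_eq] at h
  have := of_allBelow h.1.1.1 hi
  simp only [Bool.and_eq_true, beq_iff_eq, decide_eq_true_eq] at this
  exact this.1.1

theorem wf_nv {i : ℕ} (hi : i < 1596) : red 7 (nv i) = nv i ∧ nv i < B ^ 7 := by
  have h := wfOK_eq
  simp only [wfOK, Bool.and_eq_true, beq_iff_eq] at h
  have := of_allBelow h.1.1.1 hi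
  simp only [Bool.and_eq_true, beq_iff_eq, decide_eq_true_eq] at this
  exact ⟨this.1.2, this.2⟩

theorem wf_st {a : ℕ} (ha : a < 110) : red 49 (st a) = st a := by
  have h := wfOK_eq
  simp only [wfOK, Bool.and_eq_true, beq_iff_eq] at h
  exact beq_iff_eq.1 (of_allBelow h.1.1.2 ha)

theorem wf_gen : red 49 genX = genX ∧ red 49 genY = genY := by
  have h := wfOK_eq
  simp only [wfOK, Bool.and_eq_true, beq_iff_eq] at h
  exact ⟨h.1.2, h.2⟩

theorem dec_genX : dec genX = Cfsg.jankoMatrixX := by decide +kernel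

theorem dec_genY : dec genY = Cfsg.jankoMatrixY := by decide +kernel

theorem dec_tr_zero : dec (tr 0) = 1 := by decide +kernel

theorem dec_st_zero : dec (st 0) = 1 := by decide +kernel

theorem jankoX_mem : Cfsg.Spor.jankoX ∈ Cfsg.Spor.J1 := Subgroup.subset_closure (by simp)

theorem jankoY_mem : Cfsg.Spor.jankoY ∈ Cfsg.Spor.J1 := Subgroup.subset_closure (by simp)

theorem inG_X : InG (dec genX) := ⟨_, jankoX_mem, dec_genX.symm⟩

theorem inG_Y : InG (dec genY) := ⟨_, jankoY_mem, dec_genY.symm⟩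

theorem InG.one : InG 1 := ⟨1, one_mem _, rfl⟩

theorem InG.mul {M N : M7} (hM : InG M) (hN : InG N) : InG (M * N) := by
  obtain ⟨g, hg, rfl⟩ := hM
  obtain ⟨h, hh, rfl⟩ := hN
  exact ⟨g * h, mul_mem hg hh, rfl⟩

theorem InG.cancel {T M : M7} (hT : InG T) (hTM : InG (T * M)) : InG M := by
  obtain ⟨g, hg, rfl⟩ := hT
  obtain ⟨k, hk, hke⟩ := hTM
  refine ⟨g⁻¹ * k, mul_mem (inv_mem hg) hk, ?_⟩
  rw [Units.val_mul, hke, ← mul_assoc, Units.inv_mul, one_mul]

theorem edge {e : ℕ} (he : e < 3192) :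
    (getp edgeData e).1 < 1596 ∧ (getp edgeData e).2 < 110 ∧
      dec (bif e % 2 == 0 then genX else genY) * dec (tr (e / 2)) =
        dec (tr (getp edgeData e).1) * dec (st (getp edgeData e).2) := by
  have h := of_allBelow edgeOK_eq he
  simp only [Bool.and_eq_true, beq_iff_eq, decide_eq_true_eq] at h
  refine ⟨h.1.1, h.1.2, ?_⟩
  rw [← dec_mm _ (wf_tr (by omega)), ← dec_mm (wf_tr h.1.1) (wf_st h.1.2), h.2]
  cases e % 2 == 0
  · exact wf_gen.2
  · exact wf_gen.1

theorem inG_gen (e : ℕ) : InG (dec (bif e % 2 == 0 then genX else genY)) := by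
  cases e % 2 == 0
  · exact inG_Y
  · exact inG_X

theorem inG_tr : ∀ {i : ℕ}, i < 1596 → InG (dec (tr i)) := by
  intro i
  induction i using Nat.strong_induction_on with
  | _ i ih =>
    intro hi
    by_cases h0 : i = 0
    · subst h0; rw [dec_tr_zero]; exact InG.one
    have h := of_allBelow parOK_eq hi
    simp only [h0, beq_iff_eq, Bool.or_eq_true, false_or, Bool.and_eq_true, decide_eq_true_eq] at h
    obtain ⟨⟨hlt, he⟩, hp⟩ := h
    have := (edge hp).2.2
    rw [he, dec_st_zero, mul_one] at this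
    rw [← this]
    exact (inG_gen _).mul (ih _ hlt (by omega))

theorem inG_edge {e : ℕ} (he : e < 3192) : InG (dec (st (getp edgeData e).2)) := by
  obtain ⟨h1, h2, h3⟩ := edge he
  refine (inG_tr h1).cancel ?_
  rw [← h3]
  exact (inG_gen _).mul (inG_tr (by omega))

theorem stab_spec {a : ℕ} (ha : a < 110) :
    geti stabScal a < 11 ∧ 0 < geti stabScal a ∧
    dec (st a) *ᵥ v0 = (geti stabScal a : ZMod 11) • v0 ∧
    geti uMap a < 110 ∧ geti dMap a < 110 ∧
    dec (st 1) * dec (st a) = dec (st (geti uMap a)) ∧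
    dec (st 11) * dec (st a) = dec (st (geti dMap a)) ∧
    (a ≠ 0 → (a % 11 = 0 ∧ 11 ≤ a ∧ dec (st a) = dec (st 11) * dec (st (a - 11))) ∨
      dec (st a) = dec (st 1) * dec (st (a - 1))) := by
  have h := stabOK_eq
  simp only [stabOK, Bool.and_eq_true] at h
  have h1 := of_allBelow h.1.1.1 ha
  simp only [Bool.and_eq_true, Bool.or_eq_true, beq_iff_eq, decide_eq_true_eq] at h1
  obtain ⟨⟨⟨⟨⟨⟨⟨c1, c2⟩, c3⟩, c4⟩, c5⟩, c6⟩, c7⟩, c8⟩ := h1
  have hn := wf_nv (i := 0) (by norm_num)
  refine ⟨c1, c2, ?_, c4, c5, ?_, ?_, fun ha0 => ?_⟩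
  · rw [v0, ← decv_mvp (wf_st ha) hn.1, c3, decv_smp c1 hn.1 hn.2]
  · rw [← dec_mm (wf_st (by norm_num)) (wf_st ha), c6]
  · rw [← dec_mm (wf_st (by norm_num)) (wf_st ha), c7]
  · replace c8 := c8.resolve_left ha0
    by_cases hm : a % 11 = 0
    · rw [hm] at c8
      left
      refine ⟨hm, by omega, ?_⟩
      rw [← dec_mm (wf_st (by norm_num)) (wf_st (by omega))]
      simp only [beq_self_eq_true, cond_true, beq_iff_eq] at c8
      rw [c8]
    · right
      rw [← dec_mm (wf_st (by norm_num)) (wf_st (by omega))]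
      rw [beq_eq_false_iff_ne.2 hm] at c8
      simp only [cond_false, beq_iff_eq] at c8
      rw [c8]

theorem inG_one_eleven : InG (dec (st 1)) ∧ InG (dec (st 11)) := by
  have h := stabOK_eq
  simp only [stabOK, Bool.and_eq_true, beq_iff_eq] at h
  constructor
  · have := inG_edge (e := 11) (by norm_num); rwa [h.1.1.2] at this
  · have := inG_edge (e := 189) (by norm_num); rwa [h.1.2] at this

theorem inG_st : ∀ {a : ℕ}, a < 110 → InG (dec (st a)) := by
  intro a
  induction a using Nat.strong_induction_on with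
  | _ a ih =>
    intro ha
    by_cases h0 : a = 0
    · subst h0; rw [dec_st_zero]; exact InG.one
    rcases (stab_spec ha).2.2.2.2.2.2.2 h0 with ⟨-, h11, he⟩ | he
    · rw [he]; exact inG_one_eleven.2.mul (ih _ (by omega) (by omega))
    · rw [he]; exact inG_one_eleven.1.mul (ih _ (by omega) (by omega))

/-- The stabiliser list is closed under products. -/
theorem st_mul : ∀ {a b : ℕ}, a < 110 → b < 110 →
    ∃ c < 110, dec (st a) * dec (st b) = dec (st c) := by
  intro a
  induction a using Nat.strong_induction_on with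
  | _ a ih =>
    intro b ha hb
    by_cases h0 : a = 0
    · subst h0; exact ⟨b, hb, by rw [dec_st_zero, one_mul]⟩
    rcases (stab_spec ha).2.2.2.2.2.2.2 h0 with ⟨-, h11, he⟩ | he
    · obtain ⟨c, hc, hce⟩ := ih (a - 11) (by omega) (by omega) hb
      exact ⟨_, (stab_spec hc).2.2.2.2.1, by rw [he, mul_assoc, hce, (stab_spec hc).2.2.2.2.2.2.1]⟩
    · obtain ⟨c, hc, hce⟩ := ih (a - 1) (by omega) (by omega) hb
      exact ⟨_, (stab_spec hc).2.2.2.1, by rw [he, mul_assoc, hce, (stab_spec hc).2.2.2.2.2.1]⟩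

/-- Every element is a transversal element times an element of the stabiliser. -/
theorem exists_eq {g : GL (Fin 7) (ZMod 11)} (hg : g ∈ Cfsg.Spor.J1) :
    ∃ i < 1596, ∃ a < 110, (g : M7) = dec (tr i) * dec (st a) := by
  let S : Set M7 := {M | ∃ i < 1596, ∃ a < 110, M = dec (tr i) * dec (st a)}
  have hclosed : ∀ e : ℕ, e < 2 → ∀ M ∈ S, dec (bif e == 0 then genX else genY) * M ∈ S := by
    rintro e he _ ⟨i, hi, a, ha, rfl⟩
    obtain ⟨h1, h2, h3⟩ := edge (e := 2 * i + e) (by omega)
    rw [show (2 * i + e) % 2 = e by omega, show (2 * i + e) / 2 = i by omega] at h3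
    obtain ⟨c, hc, hce⟩ := st_mul h2 ha
    exact ⟨_, h1, c, hc, by rw [← mul_assoc, h3, mul_assoc, hce]⟩
  let W : Submonoid (GL (Fin 7) (ZMod 11)) :=
    { carrier := {g | ∀ M ∈ S, (g : M7) * M ∈ S}
      one_mem' := fun M hM => by simpa using hM
      mul_mem' := fun {g h} hg hh M hM => by rw [Units.val_mul, mul_assoc]; exact hg _ (hh M hM) }
  have hX : Cfsg.Spor.jankoX ∈ W := fun M hM => by
    have := hclosed 0 (by norm_num) M hM
    rwa [beq_self_eq_true, cond_true, dec_genX] at this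
  have hY : Cfsg.Spor.jankoY ∈ W := fun M hM => by
    have := hclosed 1 (by norm_num) M hM
    rwa [show ((1 : ℕ) == 0) = false from rfl, cond_false, dec_genY] at this
  have hgW : g ∈ W := by
    have hfin : ∀ x : GL (Fin 7) (ZMod 11), IsOfFinOrder x := fun x => isOfFinOrder_of_finite x
    rw [Cfsg.Spor.J1, ← Subgroup.mem_toSubmonoid,
      Subgroup.closure_toSubmonoid_of_isOfFinOrder (fun x _ => hfin x)] at hg
    exact (Submonoid.closure_le.2 (by rintro x (rfl | rfl); exacts [hX, hY])) hg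
  obtain ⟨i, hi, a, ha, he⟩ := hgW 1 ⟨0, by norm_num, 0, by norm_num,
    by rw [dec_tr_zero, dec_st_zero, one_mul]⟩
  exact ⟨i, hi, a, ha, by rw [mul_one] at he; exact he⟩

theorem tr_v0 {i : ℕ} (hi : i < 1596) :
    dec (tr i) *ᵥ v0 = (geti scalData i : ZMod 11) • decv (nv i) ∧
      (geti scalData i : ZMod 11) ≠ 0 := by
  have h := of_allBelow vecOK_eq hi
  simp only [Bool.and_eq_true, beq_iff_eq, decide_eq_true_eq] at h
  refine ⟨?_, ?_⟩
  · rw [v0, ← decv_mvp (wf_tr hi) (wf_nv (by norm_num)).1, h.2,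
      decv_smp h.1.1 (wf_nv hi).1 (wf_nv hi).2]
  · intro h0
    have := Nat.le_of_dvd h.1.2 ((ZMod.natCast_eq_zero_iff _ 11).1 h0)
    omega

/-- The orbit lines are distinct. -/
theorem eq_of_line {i j : ℕ} (hi : i < 1596) (hj : j < 1596) {c : ZMod 11} (hc : c ≠ 0)
    (h : decv (nv i) = c • decv (nv j)) : i = j := by
  have hi' := of_allBelow lookOK_eq hi
  have hj' := of_allBelow lookOK_eq hj
  simp only [Bool.and_eq_true, beq_iff_eq, leadOne, List.any_eq_true, List.all_eq_true,
    List.mem_range] at hi' hj'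
  obtain ⟨k, hk, hk1, hk0⟩ := hi'.2
  obtain ⟨l, hl, hl1, hl0⟩ := hj'.2
  haveI : Fact (Nat.Prime 11) := ⟨by norm_num⟩
  have hkl : k = l := by
    rcases lt_trichotomy k l with hlt | heq | hgt
    · exfalso
      have h1 := congrFun h ⟨k, hk⟩
      simp only [decv, Pi.smul_apply, smul_eq_mul, hk1, hl0 k hlt, Nat.cast_zero, mul_zero,
        Nat.cast_one] at h1
      exact one_ne_zero h1
    · exact heq
    · exfalso
      have h1 := congrFun h ⟨l, hl⟩
      simp only [decv, Pi.smul_apply, smul_eq_mul, hl1, hk0 l hgt, Nat.cast_zero, mul_one,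
        Nat.cast_one] at h1
      exact hc h1.symm
  subst hkl
  have h1 := congrFun h ⟨k, hk⟩
  simp only [decv, Pi.smul_apply, smul_eq_mul, hk1, hl1, Nat.cast_one, mul_one] at h1
  rw [← h1, one_smul] at h
  have := decv_inj (wf_nv hi).1 (wf_nv hj).1 h
  exact Option.some.inj (hi'.1.symm.trans (this ▸ hj'.1))

/-- An element of the group sending the base line to the `j`-th line lies in the `j`-th coset. -/
theorem coset_of_line {g : GL (Fin 7) (ZMod 11)} (hg : g ∈ Cfsg.Spor.J1) {j : ℕ} (hj : j < 1596)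
    {c : ZMod 11} (h : (g : M7) *ᵥ v0 = c • decv (nv j)) :
    ∃ a < 110, (g : M7) = dec (tr j) * dec (st a) := by
  haveI : Fact (Nat.Prime 11) := ⟨by norm_num⟩
  obtain ⟨i, hi, a, ha, he⟩ := exists_eq hg
  obtain ⟨s1, s2, s3, -⟩ := stab_spec ha
  obtain ⟨t1, t2⟩ := tr_v0 hi
  rw [he, ← Matrix.mulVec_mulVec, s3, Matrix.mulVec_smul, t1, smul_smul] at h
  have hs : (geti stabScal a : ZMod 11) * (geti scalData i : ZMod 11) ≠ 0 := by
    refine mul_ne_zero (fun h0 => ?_) t2
    have := Nat.le_of_dvd s2 ((ZMod.natCast_eq_zero_iff _ 11).1 h0)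
    omega
  have hij : i = j := by
    have h' : decv (nv i) = ((geti stabScal a : ZMod 11) * geti scalData i)⁻¹ • c • decv (nv j) := by
      rw [← h, inv_smul_smul₀ hs]
    rw [smul_smul] at h'
    by_cases hc0 : ((geti stabScal a : ZMod 11) * geti scalData i)⁻¹ * c = 0
    · rw [hc0] at h'
      have h2 : decv (nv i) = (0 : ZMod 11) • decv (nv i) := by rw [h', zero_smul, smul_zero]
      have hi' := of_allBelow lookOK_eq hi
      simp only [Bool.and_eq_true, beq_iff_eq, leadOne, List.any_eq_true, List.mem_range] at hi'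
      obtain ⟨k, hk, hk1, -⟩ := hi'.2
      have h3 := congrFun h2 ⟨k, hk⟩
      simp only [decv, Pi.smul_apply, smul_eq_mul, hk1, zero_mul, Nat.cast_one] at h3
      exact absurd h3 one_ne_zero
    · exact eq_of_line hi hj hc0 h'
  exact ⟨a, ha, hij ▸ he⟩

/-- An element of the group fixing the base line lies in the stabiliser. -/
theorem fix_st {g : GL (Fin 7) (ZMod 11)} (hg : g ∈ Cfsg.Spor.J1) {c : ZMod 11}
    (h : (g : M7) *ᵥ v0 = c • v0) : ∃ a < 110, (g : M7) = dec (st a) := by
  obtain ⟨a, ha, he⟩ := coset_of_line hg (j := 0) (by norm_num) (c := c) h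
  exact ⟨a, ha, by rw [he, dec_tr_zero, one_mul]⟩

theorem st_injective {a b : ℕ} (ha : a < 110) (hb : b < 110) (h : dec (st a) = dec (st b)) :
    a = b := by
  have hst := stabOK_eq
  simp only [stabOK, Bool.and_eq_true] at hst
  have := of_allBelow (of_allBelow hst.2 ha) hb
  simp only [Bool.or_eq_true, beq_iff_eq, Bool.not_eq_true', beq_eq_false_iff_ne] at this
  rcases this with h1 | h1
  · exact h1
  · exact absurd (dec_inj (wf_st ha) (wf_st hb) h) h1

/-- The element with given coordinates. -/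
noncomputable def el (p : Fin 1596 × Fin 110) : Cfsg.Spor.J1 :=
  ⟨((inG_tr p.1.isLt).mul (inG_st p.2.isLt)).choose,
    ((inG_tr p.1.isLt).mul (inG_st p.2.isLt)).choose_spec.1⟩

theorem el_val (p : Fin 1596 × Fin 110) :
    ((el p : GL (Fin 7) (ZMod 11)) : M7) = dec (tr p.1.val) * dec (st p.2.val) :=
  ((inG_tr p.1.isLt).mul (inG_st p.2.isLt)).choose_spec.2

theorem el_bijective : Function.Bijective el := by
  constructor
  · rintro ⟨i, a⟩ ⟨j, b⟩ h
    have h1 : dec (tr i.val) * dec (st a.val) = dec (tr j.val) * dec (st b.val) := by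
      have := congrArg (fun g : Cfsg.Spor.J1 => ((g : GL (Fin 7) (ZMod 11)) : M7)) h
      simpa only [el_val] using this
    have hv : ((el (j, b) : GL (Fin 7) (ZMod 11)) : M7) *ᵥ v0 =
        ((geti stabScal a : ZMod 11) * geti scalData i.val) • decv (nv i.val) := by
      rw [el_val, ← h1, ← Matrix.mulVec_mulVec, (stab_spec a.isLt).2.2.1, Matrix.mulVec_smul,
        (tr_v0 i.isLt).1, smul_smul]
    haveI : Fact (Nat.Prime 11) := ⟨by norm_num⟩
    have hji : i.val = j.val := by
      rw [el_val, ← Matrix.mulVec_mulVec, (stab_spec b.isLt).2.2.1, Matrix.mulVec_smul,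
        (tr_v0 j.isLt).1, smul_smul] at hv
      have hne : ∀ (a : Fin 110) (i : Fin 1596),
          (geti stabScal a.val : ZMod 11) * geti scalData i.val ≠ 0 := fun a i => by
        refine mul_ne_zero (fun h0 => ?_) (tr_v0 i.isLt).2
        have h5 := (stab_spec a.isLt).1
        have := Nat.le_of_dvd (stab_spec a.isLt).2.1 ((ZMod.natCast_eq_zero_iff _ 11).1 h0)
        omega
      refine eq_of_line i.isLt j.isLt
        (mul_ne_zero (inv_ne_zero (hne a i)) (hne b j)) ?_
      rw [← smul_smul, hv, inv_smul_smul₀ (hne a i)]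
    obtain rfl : i = j := Fin.ext hji
    obtain ⟨g, -, hg⟩ := inG_tr i.isLt
    rw [← hg, Units.mul_right_inj] at h1
    exact Prod.ext rfl (Fin.ext (st_injective a.isLt b.isLt h1))
  · rintro ⟨g, hg⟩
    obtain ⟨i, hi, a, ha, he⟩ := exists_eq hg
    exact ⟨(⟨i, hi⟩, ⟨a, ha⟩), Subtype.ext (Units.ext ((el_val _).trans he.symm))⟩

/-- The order of J₁. -/
theorem card_J1 : Nat.card Cfsg.Spor.J1 = 175560 := by
  rw [← Nat.card_congr (Equiv.ofBijective el el_bijective)]
  simp

end Cfsg.Agent.Janko.J1
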